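import Cfsg.Agent.SL3Pres.H5_A2Borel

set_option autoImplicit false

/-!
# S2287 piece Borel (helper5): `|G| ≤ q³ (Ka Kb) (1 + 2q + 2q² + q³)`
-/

namespace Cfsg.Agent.SL3Pres

open Cfsg.Agent.SL2Pres

section abstract

variable {G : Type*} [Group G] {F : Type*} [Field F] [Fintype F]
  {ζ : Fˣ} {xa xb : F → G} {ta ha tb hb : G} {Ka Kb : ℕ}

theorem sl3_card_le (hyp : SL3Hyp ζ xa xb ta ha tb hb Ka Kb)
    (hgen : Subgroup.closure {xa 1, ta, ha, xb 1, tb, hb} = ⊤) :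
    Finite G ∧ Nat.card G ≤ Fintype.card F ^ 3 * (Ka * Kb) *
      (1 + 2 * Fintype.card F + 2 * Fintype.card F ^ 2 + Fintype.card F ^ 3) := by
  obtain ⟨e, _, R⟩ := a2rel_of_hyp hyp
  exact b3_card_le hyp R hgen

end abstract

end Cfsg.Agent.SL3Pres
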