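import Cfsg.Agent.SL3Pres.L2
import Cfsg.Agent.SL3Pres.Borel

/-!
# Presentation of `SL₃(F)`: the abstract group side (piece GSide, S2287)
-/

set_option autoImplicit false

namespace Cfsg.Agent.SL3Pres

open Cfsg.Agent.SL2Pres Polynomial

variable {G : Type*} [Group G] {F : Type*} [Field F] [Fintype F] {p : ℕ} [Fact p.Prime]
  [Algebra (ZMod p) F]

/-- **The abstract group side**: a group generated by `u, t, h, c` satisfying the `SL₂`-relations for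
`u, t, h` and the five (six for `|F| = 4`) cross relations is finite of order at most `|SL₃(F)|`. -/
theorem gside4 (ζ : Fˣ) (hζ : ∀ a : Fˣ, a ∈ Subgroup.zpowers ζ) (u t h c : G)
    (hgen : Subgroup.closure {u, t, h, c} = ⊤)
    (hu : u ^ p = 1) (hcomm : ∀ i j : ℤ, Commute (cj h u i) (cj h u j))
    (hm : polyProd h u (minpoly (ZMod p) ((ζ : F) ^ 2)) = 1)
    (hth : t * h * t⁻¹ = h⁻¹) (M : ℕ) (ht2 : t ^ 2 = h ^ M)
    (hfam0 : t * u * t⁻¹ = u⁻¹ * t * u⁻¹)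
    (Pζ Pν : (ZMod p)[X]) (hPζ : aeval ((ζ : F) ^ 2) Pζ = (ζ : F))
    (hPν : aeval ((ζ : F) ^ 2) Pν = -(ζ : F)⁻¹)
    (hν : t * polyProd h u Pζ * t⁻¹ = polyProd h u Pν * h⁻¹ * t * polyProd h u Pν)
    (Pinv : (ZMod p)[X]) (hPinv : aeval ((ζ : F) ^ 2) Pinv = (ζ : F)⁻¹)
    (wW : t * (c * t * c⁻¹) * h ^ M = c)
    (whh : h * (c * h * c⁻¹) = (c * h * c⁻¹) * h)
    (wtor : h * (c * h * c⁻¹) * (c⁻¹ * h * c) = 1)
    (wact : (c * h * c⁻¹) * u * (c * h * c⁻¹)⁻¹ = polyProd h u Pinv)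
    (wB : u * (c * u * c⁻¹) * u⁻¹ * (c * u * c⁻¹)⁻¹ = (c * t * c⁻¹) * u⁻¹ * (c * t * c⁻¹)⁻¹)
    (wB' : Fintype.card F = 4 →
      polyProd h u Pζ * (c * u * c⁻¹) * (polyProd h u Pζ)⁻¹ * (c * u * c⁻¹)⁻¹ =
        (c * t * c⁻¹) * (polyProd h u Pζ)⁻¹ * (c * t * c⁻¹)⁻¹) :
    Finite G ∧ Nat.card G ≤ Fintype.card F ^ 3 *
      ((Fintype.card F - 1) * (Fintype.card F - 1)) *
      (1 + 2 * Fintype.card F + 2 * Fintype.card F ^ 2 + Fintype.card F ^ 3) := by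
  obtain ⟨xa, hxa1, hyp⟩ := sl3_hyp_of_rels ζ hζ u t h c hu hcomm hm hth M ht2 hfam0 Pζ Pν hPζ hPν
    hν Pinv hPinv wW whh wtor wact wB wB'
  apply sl3_card_le hyp
  -- generation: `c = t (c t c⁻¹) h^M`
  rw [eq_top_iff, ← hgen, Subgroup.closure_le]
  set K := Subgroup.closure ({xa 1, t, h, (fun a => c * xa a * c⁻¹) 1, c * t * c⁻¹, c * h * c⁻¹} :
    Set G) with hK
  have hu' : u ∈ K := by
    rw [← hxa1]; exact Subgroup.subset_closure (by simp)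
  have ht' : t ∈ K := Subgroup.subset_closure (by simp)
  have hh' : h ∈ K := Subgroup.subset_closure (by simp)
  have htb' : c * t * c⁻¹ ∈ K := Subgroup.subset_closure (by simp)
  have hc' : c ∈ K := by
    rw [← wW]
    exact K.mul_mem (K.mul_mem ht' htb') (K.pow_mem hh' M)
  rintro g (rfl | rfl | rfl | rfl)
  · exact hu'
  · exact ht'
  · exact hh'
  · exact hc'

end Cfsg.Agent.SL3Pres
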