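import Cfsg.Agent.SL3Pres.TSide
import Cfsg.Agent.SL3Pres.GSide
import Cfsg.Agent.Sp4Pres.Asm

/-!
# Presentation of `SL₃(F)`: assembly (piece Asm, S2287)
-/

set_option autoImplicit false

namespace Cfsg.Agent.SL3Pres

open Cfsg.Agent.SL2Pres Cfsg.Agent.Sp4Pres Polynomial Matrix

section main

variable {F : Type*} [Field F] [Fintype F]

/-- the full relator list: the `SL₂`-relators of the triple, the five cross relators, and
optionally `(B')` -/
noncomputable def allRels4 {p : ℕ} (L3 : List (FreeGroup (Fin 3))) (M : ℕ) (Pinv : (ZMod p)[X])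
    (extra : List (FreeGroup (Fin 4))) : List (FreeGroup (Fin 4)) :=
  L3.map map3 ++ crossRels5 M Pinv ++ extra

theorem allRels4_length {p : ℕ} (L3 : List (FreeGroup (Fin 3))) (M : ℕ) (Pinv : (ZMod p)[X])
    (extra : List (FreeGroup (Fin 4))) :
    (allRels4 L3 M Pinv extra).length = L3.length + 5 + extra.length := by
  simp only [allRels4, crossRels5, List.length_append, List.length_map, List.length_cons,
    List.length_nil]

theorem card_SL3_eq :
    Nat.card (SpecialLinearGroup (Fin 3) F) =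
      Fintype.card F ^ 3 * ((Fintype.card F - 1) * (Fintype.card F - 1)) *
        (1 + 2 * Fintype.card F + 2 * Fintype.card F ^ 2 + Fintype.card F ^ 3) := by
  rw [m3_card]
  have hq : 2 ≤ Fintype.card F := Fintype.one_lt_card
  obtain ⟨r, hr⟩ : ∃ r, Fintype.card F = r + 1 := ⟨Fintype.card F - 1, by omega⟩
  rw [hr]
  have e1 : (r + 1) ^ 2 - 1 = r * (r + 2) := by
    apply Nat.sub_eq_of_eq_add; ring
  have e2 : (r + 1) ^ 3 - 1 = r * (r ^ 2 + 3 * r + 3) := by
    apply Nat.sub_eq_of_eq_add; ring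
  rw [e1, e2, Nat.add_sub_cancel]
  ring

/-- **The `G`-side for a presented group** whose relators contain the full list. -/
theorem asm_core4 {p : ℕ} [Fact p.Prime] [Algebra (ZMod p) F] (ζ : Fˣ)
    (hζ : ∀ a : Fˣ, a ∈ Subgroup.zpowers ζ)
    (L3 : List (FreeGroup (Fin 3))) (M : ℕ) (Pζ Pν Pinv : (ZMod p)[X])
    (hPζ : aeval ((ζ : F) ^ 2) Pζ = (ζ : F)) (hPν : aeval ((ζ : F) ^ 2) Pν = -(ζ : F)⁻¹)
    (hPinv : aeval ((ζ : F) ^ 2) Pinv = (ζ : F)⁻¹)
    (hf : ∀ {G : Type} [Group G] (ψ : FreeGroup (Fin 3) →* G), (∀ r ∈ L3, ψ r = 1) →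
      Sl2Facts ζ (ψ wU) (ψ wT) (ψ wH) M Pζ Pν)
    (extra : List (FreeGroup (Fin 4)))
    (hextra : Fintype.card F = 4 → y6 Pζ ∈ extra)
    (rels : Set (FreeGroup (Fin 4))) (hrels : ∀ r ∈ allRels4 L3 M Pinv extra, r ∈ rels) :
    Finite (PresentedGroup rels) ∧
      Nat.card (PresentedGroup rels) ≤ Nat.card (SpecialLinearGroup (Fin 3) F) := by
  set ψ : FreeGroup (Fin 4) →* PresentedGroup rels := PresentedGroup.mk rels with hψ
  have hone : ∀ r ∈ allRels4 L3 M Pinv extra, ψ r = 1 :=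
    fun r hr => PresentedGroup.one_of_mem (hrels r hr)
  have hone3 : ∀ r ∈ L3, (ψ.comp map3) r = 1 := by
    intro r hr
    exact hone _ (by
      simp only [allRels4, List.mem_append, List.mem_map]; left; left; exact ⟨r, hr, rfl⟩)
  have honeX : ∀ r ∈ crossRels5 M Pinv, ψ r = 1 := by
    intro r hr
    exact hone _ (by simp only [allRels4, List.mem_append]; left; right; exact hr)
  have honeE : ∀ r ∈ extra, ψ r = 1 := by
    intro r hr
    exact hone _ (by simp only [allRels4, List.mem_append]; right; exact hr)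
  have fa := hf (ψ.comp map3) hone3
  simp only [MonoidHom.comp_apply, map3_U, map3_T, map3_H] at fa
  obtain ⟨hu, hcomm, hm, hth, ht2, hfam0, hν⟩ := fa
  have main := gside4 ζ hζ (ψ gU) (ψ gT) (ψ gH) (ψ gC) (closure_gens4 rels)
    hu hcomm hm hth M ht2 hfam0 Pζ Pν hPζ hPν hν Pinv hPinv
    ((y1_iff ψ M).mp (honeX _ (by simp [crossRels5])))
    ((y2_iff ψ).mp (honeX _ (by simp [crossRels5])))
    ((y3_iff ψ).mp (honeX _ (by simp [crossRels5])))
    ((y4_iff ψ Pinv).mp (honeX _ (by simp [crossRels5])))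
    ((y5_iff ψ).mp (honeX _ (by simp [crossRels5])))
    (fun h4 => (y6_iff ψ Pζ).mp (honeE _ (hextra h4)))
  refine ⟨main.1, ?_⟩
  rw [card_SL3_eq]
  exact main.2

omit [Fintype F] in
/-- the `T`-side for the full relator list -/
theorem lift4_allRels {p : ℕ} [Fact p.Prime] [Algebra (ZMod p) F] (ζ : Fˣ)
    (L3 : List (FreeGroup (Fin 3))) (M : ℕ) (hη : ζ ^ M = -1) (Pinv : (ZMod p)[X])
    (hPinv : aeval ((ζ : F) ^ 2) Pinv = (ζ : F)⁻¹)
    (h3 : ∀ r ∈ L3, liftM (F := F) ζ r = 1)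
    (extra : List (FreeGroup (Fin 4))) (he : ∀ r ∈ extra, lift4 (F := F) ζ r = 1) :
    ∀ r ∈ allRels4 L3 M Pinv extra, lift4 (F := F) ζ r = 1 := by
  intro r hr
  simp only [allRels4, List.mem_append, List.mem_map] at hr
  rcases hr with (⟨r3, hr3, rfl⟩ | hr) | hr
  · rw [lift4_map3_apply, h3 r3 hr3, map_one]
  · exact lift4_crossRels5 ζ M hη Pinv hPinv r hr
  · exact he r hr

/-- **`SL₃(F)`, `q` odd: 14 relators.** -/
theorem pres_SL3_odd (h2 : (2 : F) ≠ 0) :
    ∃ rels : Finset (FreeGroup (Fin 4)), rels.card ≤ 14 ∧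
      Nonempty (PresentedGroup (↑rels : Set (FreeGroup (Fin 4))) ≃*
        SpecialLinearGroup (Fin 3) F) := by
  obtain ⟨p, hp⟩ := CharP.exists F
  haveI : Fact p.Prime := ⟨CharP.char_is_prime F p⟩
  letI : Algebra (ZMod p) F := ZMod.algebra F p
  obtain ⟨ζ, hζ⟩ := exists_zeta F
  have hadj := adjoin_sq_eq_top (p := p) ζ hζ
  obtain ⟨Pζ, hPζ⟩ := exists_poly _ hadj (ζ : F)
  obtain ⟨Pν, hPν⟩ := exists_poly _ hadj (-(ζ : F)⁻¹)
  obtain ⟨Pinv, hPinv⟩ := exists_poly _ hadj ((ζ : F)⁻¹)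
  have hM1 := zeta_pow_half ζ hζ h2
  obtain ⟨k, LN, hLN, hlen, hLNrel⟩ := exists_LN_odd ζ hζ
  set M := (Fintype.card F - 1) / 2 with hMdef
  have hη : ζ ^ M = -1 := by
    apply Units.ext
    rw [Units.val_pow_eq_pow_val, hM1, Units.val_neg, Units.val_one]
  set L3 := [rU p, rM (minpoly (ZMod p) ((ζ : F) ^ 2)), rTH, rT2 M, rR3, rNu Pζ Pν] ++ LN with hL3
  have hL3len : L3.length ≤ 9 := by
    simp only [hL3, List.length_append, List.length_cons, List.length_nil]; omega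
  have hodd : Fintype.card F % 2 = 1 :=
    FiniteField.odd_card_of_char_ne_two (fun hc => h2 (fd_two_eq_zero_iff.mpr hc))
  refine pres_wrap6 (allRels4 L3 M Pinv []) 14
    (by rw [allRels4_length, List.length_nil]; omega)
    (lift4 ζ) (lift4_surjective (p := p) ζ hζ) ?_ ?_
  · exact lift4_allRels ζ L3 M hη Pinv hPinv
      (liftM_relsOdd ζ M hM1 Pζ Pν hPζ hPν LN hLNrel) [] (by simp)
  · intro rels hrels
    exact asm_core4 ζ hζ L3 M Pζ Pν Pinv hPζ hPν hPinv
      (fun ψ hψ => sl2_facts_odd ψ ζ k LN hLN M Pζ Pν hψ) [] (fun h4 => by omega) rels hrels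

/-- **`SL₃(F)`, `q` even: at most 11 relators.** -/
theorem pres_SL3_even (h2 : (2 : F) = 0) :
    ∃ rels : Finset (FreeGroup (Fin 4)), rels.card ≤ 11 ∧
      Nonempty (PresentedGroup (↑rels : Set (FreeGroup (Fin 4))) ≃*
        SpecialLinearGroup (Fin 3) F) := by
  haveI : CharP F 2 := by
    have := fd_two_eq_zero_iff.mp h2
    rw [← this]; exact ringChar.charP F
  haveI : Fact (Nat.Prime 2) := ⟨Nat.prime_two⟩
  letI : Algebra (ZMod 2) F := ZMod.algebra F 2
  obtain ⟨ζ, hζ⟩ := exists_zeta F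
  have hadj := adjoin_sq_eq_top (p := 2) ζ hζ
  obtain ⟨Pζ, hPζ⟩ := exists_poly _ hadj (ζ : F)
  obtain ⟨Pν, hPν⟩ := exists_poly _ hadj (-(ζ : F)⁻¹)
  obtain ⟨Pinv, hPinv⟩ := exists_poly _ hadj ((ζ : F)⁻¹)
  obtain ⟨k, LN, hLN, hlen, hLNrel⟩ := exists_LN_even h2 ζ hζ
  have hneg1 : (-1 : Fˣ) = 1 := by
    apply Units.ext
    rw [Units.val_neg, Units.val_one]
    linear_combination -h2
  have hη : ζ ^ 0 = -1 := by rw [pow_zero, hneg1]
  have hu2 : xM (1 : F) ^ 2 = 1 := xM_pow_char 2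
  have ht2M : (tM : SpecialLinearGroup (Fin 2) F) ^ 2 = 1 := by rw [tM_sq, hneg1, hM_one]
  set L3 := [rU 2, rBr, rM (minpoly (ZMod 2) ((ζ : F) ^ 2)), rNu Pζ Pν] ++ LN with hL3
  have hL3len : L3.length ≤ 5 := by
    simp only [hL3, List.length_append, List.length_cons, List.length_nil]; omega
  have hL3rel : ∀ r ∈ L3, liftM (F := F) ζ r = 1 := by
    intro r hr
    simp only [hL3, List.mem_append, List.mem_cons, List.not_mem_nil, or_false] at hr
    rcases hr with (rfl | rfl | rfl | rfl) | hr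
    · exact liftM_rU ζ 2
    · rw [rBr_iff, liftM_T, liftM_U]
      have h3 := (rR3_iff (liftM (F := F) ζ)).mp (liftM_rR3 ζ)
      rw [liftM_T, liftM_U] at h3
      have eu : (xM (1 : F))⁻¹ = xM 1 := inv_eq_of_mul_eq_one_left (by rw [← pow_two]; exact hu2)
      have et : (tM : SpecialLinearGroup (Fin 2) F)⁻¹ = tM :=
        inv_eq_of_mul_eq_one_left (by rw [← pow_two]; exact ht2M)
      rw [eu, et] at h3
      exact h3.symm
    · exact liftM_rM ζ
    · exact liftM_rNu ζ Pζ Pν hPζ hPν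
    · exact hLNrel r hr
  refine pres_wrap6 (allRels4 L3 0 Pinv [y6 Pζ]) 11
    (by rw [allRels4_length]; simp only [List.length_cons, List.length_nil]; omega)
    (lift4 ζ) (lift4_surjective (p := 2) ζ hζ) ?_ ?_
  · exact lift4_allRels ζ L3 0 hη Pinv hPinv hL3rel [y6 Pζ] (by
      intro r hr
      simp only [List.mem_cons, List.not_mem_nil, or_false] at hr
      rw [hr]; exact lift4_y6 ζ Pζ hPζ)
  · intro rels hrels
    exact asm_core4 ζ hζ L3 0 Pζ Pν Pinv hPζ hPν hPinv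
      (fun ψ hψ => sl2_facts_even h2 rfl ψ ζ hζ k LN hLN Pζ Pν hψ) [y6 Pζ]
      (fun _ => by simp) rels hrels

end main

end Cfsg.Agent.SL3Pres
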