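import Cfsg.Agent.Sp4Pres.Count

set_option autoImplicit false

/-!
# S2287 piece Q1 (helper9): the abstract rank-2 (type `A₂`) Bruhat count

Same as `Cfsg.Agent.Sp4Pres.rank2_count`, for the Weyl group `S₃` (six cells `1, a, b, ab, ba, aba`).
-/

namespace Cfsg.Agent.SL3Pres

open Cfsg.Agent.Sp4Pres

theorem a2_count {G : Type*} [Group G] {F : Type*} [Fintype F] (B : Subgroup G) [Finite B]
    (xa xb : F → G) (na nb : G)
    (hxa : ∀ c, xa c ∈ B) (hxb : ∀ c, xb c ∈ B)
    (hna2 : na * na ∈ B) (hnb2 : nb * nb ∈ B)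
    (ia : ∀ b ∈ B, ∃ b' ∈ B, ∃ c, na * b = b' * na * xa c)
    (ia' : ∀ b ∈ B, ∃ b' ∈ B, ∃ c, b * na = xa c * na * b')
    (ib : ∀ b ∈ B, ∃ b' ∈ B, ∃ c, nb * b = b' * nb * xb c)
    (ib' : ∀ b ∈ B, ∃ b' ∈ B, ∃ c, b * nb = xb c * nb * b')
    (iia : ∀ c, na * xa c * na ∈ B ∨ ∃ b ∈ B, ∃ b' ∈ B, na * xa c * na = b * na * b')
    (iib : ∀ c, nb * xb c * nb ∈ B ∨ ∃ b ∈ B, ∃ b' ∈ B, nb * xb c * nb = b * nb * b')
    (h1a : ∀ c, na * xb c * na⁻¹ ∈ B) (h1b : ∀ c, nb * xa c * nb⁻¹ ∈ B)
    (h2a : ∀ c, (na * nb) * xa c * (na * nb)⁻¹ ∈ B)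
    (h2b : ∀ c, (nb * na) * xb c * (nb * na)⁻¹ ∈ B)
    (hbraid : ∃ b ∈ B, na * nb * na = nb * na * nb * b)
    (hgen : Subgroup.closure ((B : Set G) ∪ {na, nb}) = ⊤) :
    Finite G ∧ Nat.card G ≤ Nat.card B *
      (1 + 2 * Fintype.card F + 2 * Fintype.card F ^ 2 + Fintype.card F ^ 3) := by
  classical
  -- `false` is the letter `a`, `true` the letter `b`
  let x : Bool → F → G := fun s => cond s xb xa
  let n : Bool → G := fun s => cond s nb na
  have hx : ∀ s c, x s c ∈ B := by
    intro s c
    cases s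
    · exact hxa c
    · exact hxb c
  have hi : ∀ s, ∀ b ∈ B, ∃ b' ∈ B, ∃ c, n s * b = b' * n s * x s c := by
    intro s
    cases s
    · exact ia
    · exact ib
  have hi' : ∀ s, ∀ b ∈ B, ∃ b' ∈ B, ∃ c, b * n s = x s c * n s * b' := by
    intro s
    cases s
    · exact ia'
    · exact ib'
  have hii : ∀ s c, n s * x s c * n s ∈ B ∨
      ∃ b ∈ B, ∃ b' ∈ B, n s * x s c * n s = b * n s * b' := by
    intro s
    cases s
    · exact iia
    · exact iib
  -- single double cosets
  have d0 : cnt_cell B x n [] ⊆ cnt_dc B n [] := fun g hg =>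
    ⟨g, hg, 1, B.one_mem, by simp [cnt_prod]⟩
  have da : cnt_cell B x n [false] ⊆ cnt_dc B n [false] :=
    cnt_cell_subset_dc hx hi' [] false d0 (by
      intro c
      show 1 * xa c * 1⁻¹ ∈ B
      rw [one_mul, inv_one, mul_one]
      exact hxa c)
  have db : cnt_cell B x n [true] ⊆ cnt_dc B n [true] :=
    cnt_cell_subset_dc hx hi' [] true d0 (by
      intro c
      show 1 * xb c * 1⁻¹ ∈ B
      rw [one_mul, inv_one, mul_one]
      exact hxb c)
  have dab : cnt_cell B x n [true, false] ⊆ cnt_dc B n [true, false] :=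
    cnt_cell_subset_dc hx hi' [false] true da (by
      intro c
      show (1 * na) * xb c * (1 * na)⁻¹ ∈ B
      rw [one_mul]
      exact h1a c)
  have dba : cnt_cell B x n [false, true] ⊆ cnt_dc B n [false, true] :=
    cnt_cell_subset_dc hx hi' [true] false db (by
      intro c
      show (1 * nb) * xa c * (1 * nb)⁻¹ ∈ B
      rw [one_mul]
      exact h1b c)
  have daba : cnt_cell B x n [false, true, false] ⊆ cnt_dc B n [false, true, false] :=
    cnt_cell_subset_dc hx hi' [true, false] false dab (by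
      intro c
      show (1 * na * nb) * xa c * (1 * na * nb)⁻¹ ∈ B
      rw [one_mul]
      exact h2a c)
  have dbab : cnt_cell B x n [true, false, true] ⊆ cnt_dc B n [true, false, true] :=
    cnt_cell_subset_dc hx hi' [false, true] true dba (by
      intro c
      show (1 * nb * na) * xb c * (1 * nb * na)⁻¹ ∈ B
      rw [one_mul]
      exact h2b c)
  -- the braid relation identifies the two longest cells
  obtain ⟨b₀, hb₀, hbr⟩ := hbraid
  have paba : cnt_prod n [false, true, false] = na * nb * na := by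
    show 1 * na * nb * na = _
    rw [one_mul]
  have pbab : cnt_prod n [true, false, true] = nb * na * nb := by
    show 1 * nb * na * nb = _
    rw [one_mul]
  have e1 : cnt_cell B x n [false, true, false] ⊆ cnt_cell B x n [true, false, true] := by
    intro g hg
    obtain ⟨b₁, hb₁, b₂, hb₂, rfl⟩ := daba hg
    apply cnt_dc_subset hx hi
    refine ⟨b₁, hb₁, b₀ * b₂, B.mul_mem hb₀ hb₂, ?_⟩
    rw [paba, pbab, hbr]
    group
  have e2 : cnt_cell B x n [true, false, true] ⊆ cnt_cell B x n [false, true, false] := by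
    intro g hg
    obtain ⟨b₁, hb₁, b₂, hb₂, rfl⟩ := dbab hg
    apply cnt_dc_subset hx hi
    refine ⟨b₁, hb₁, b₀⁻¹ * b₂, B.mul_mem (B.inv_mem hb₀) hb₂, ?_⟩
    rw [paba, pbab, hbr]
    group
  -- the union of the six cells
  set Y : Set G := cnt_cell B x n [] ∪ cnt_cell B x n [false] ∪ cnt_cell B x n [true] ∪
    cnt_cell B x n [true, false] ∪ cnt_cell B x n [false, true] ∪
    cnt_cell B x n [false, true, false] with hY
  have hmemY : ∀ g, g ∈ Y ↔ g ∈ cnt_cell B x n [] ∨ g ∈ cnt_cell B x n [false] ∨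
      g ∈ cnt_cell B x n [true] ∨ g ∈ cnt_cell B x n [true, false] ∨
      g ∈ cnt_cell B x n [false, true] ∨ g ∈ cnt_cell B x n [false, true, false] := by
    intro g
    simp only [hY, Set.mem_union, or_assoc]
  have hYB : ∀ y ∈ Y, ∀ b ∈ B, y * b ∈ Y := by
    intro y hy b hb
    rw [hmemY] at hy ⊢
    rcases hy with h | h | h | h | h | h
    · exact Or.inl (cnt_right hx hi _ hb h)
    · exact Or.inr (Or.inl (cnt_right hx hi _ hb h))
    · exact Or.inr (Or.inr (Or.inl (cnt_right hx hi _ hb h)))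
    · exact Or.inr (Or.inr (Or.inr (Or.inl (cnt_right hx hi _ hb h))))
    · exact Or.inr (Or.inr (Or.inr (Or.inr (Or.inl (cnt_right hx hi _ hb h)))))
    · exact Or.inr (Or.inr (Or.inr (Or.inr (Or.inr (cnt_right hx hi _ hb h)))))
  have hYa : ∀ y ∈ Y, y * na ∈ Y := by
    intro y hy
    rw [hmemY] at hy ⊢
    rcases hy with h | h | h | h | h | h
    · -- 1 · a = a
      exact Or.inr (Or.inl (cnt_mul_n hx hi [] false h))
    · -- a · a
      rcases cnt_square hx hi hii [] false (cnt_mul_n hx hi [false] false h) with h' | h'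
      · exact Or.inl h'
      · exact Or.inr (Or.inl h')
    · -- b · a = ba
      exact Or.inr (Or.inr (Or.inr (Or.inr (Or.inl (cnt_mul_n hx hi [true] false h)))))
    · -- ab · a = aba
      exact Or.inr (Or.inr (Or.inr (Or.inr (Or.inr (cnt_mul_n hx hi [true, false] false h)))))
    · -- ba · a
      rcases cnt_square hx hi hii [true] false (cnt_mul_n hx hi [false, true] false h) with h' | h'
      · exact Or.inr (Or.inr (Or.inl h'))
      · exact Or.inr (Or.inr (Or.inr (Or.inr (Or.inl h'))))
    · -- aba · a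
      rcases cnt_square hx hi hii [true, false] false
        (cnt_mul_n hx hi [false, true, false] false h) with h' | h'
      · exact Or.inr (Or.inr (Or.inr (Or.inl h')))
      · exact Or.inr (Or.inr (Or.inr (Or.inr (Or.inr h'))))
  have hYb : ∀ y ∈ Y, y * nb ∈ Y := by
    intro y hy
    rw [hmemY] at hy ⊢
    rcases hy with h | h | h | h | h | h
    · -- 1 · b = b
      exact Or.inr (Or.inr (Or.inl (cnt_mul_n hx hi [] true h)))
    · -- a · b = ab
      exact Or.inr (Or.inr (Or.inr (Or.inl (cnt_mul_n hx hi [false] true h))))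
    · -- b · b
      rcases cnt_square hx hi hii [] true (cnt_mul_n hx hi [true] true h) with h' | h'
      · exact Or.inl h'
      · exact Or.inr (Or.inr (Or.inl h'))
    · -- ab · b
      rcases cnt_square hx hi hii [false] true (cnt_mul_n hx hi [true, false] true h) with h' | h'
      · exact Or.inr (Or.inl h')
      · exact Or.inr (Or.inr (Or.inr (Or.inl h')))
    · -- ba · b = bab = aba
      exact Or.inr (Or.inr (Or.inr (Or.inr (Or.inr
        (e2 (cnt_mul_n hx hi [false, true] true h))))))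
    · -- aba · b = bab · b
      rcases cnt_square hx hi hii [false, true] true
        (cnt_mul_n hx hi [true, false, true] true (e1 h)) with h' | h'
      · exact Or.inr (Or.inr (Or.inr (Or.inr (Or.inl h'))))
      · exact Or.inr (Or.inr (Or.inr (Or.inr (Or.inr (e2 h')))))
  -- inverses of the generators
  have hYa' : ∀ y ∈ Y, y * na⁻¹ ∈ Y := by
    intro y hy
    have e : y * na⁻¹ = y * na * (na * na)⁻¹ := by group
    rw [e]
    exact hYB _ (hYa y hy) _ (B.inv_mem hna2)
  have hYb' : ∀ y ∈ Y, y * nb⁻¹ ∈ Y := by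
    intro y hy
    have e : y * nb⁻¹ = y * nb * (nb * nb)⁻¹ := by group
    rw [e]
    exact hYB _ (hYb y hy) _ (B.inv_mem hnb2)
  -- `Y` is stable under right multiplication by everything
  have hall : ∀ g : G, (∀ y ∈ Y, y * g ∈ Y) ∧ (∀ y ∈ Y, y * g⁻¹ ∈ Y) := by
    intro g
    have hg : g ∈ Subgroup.closure ((B : Set G) ∪ {na, nb}) := by
      rw [hgen]
      exact Subgroup.mem_top g
    induction hg using Subgroup.closure_induction with
    | mem z hz =>
      rcases hz with hz | hz | hz
      · exact ⟨fun y hy => hYB y hy z hz, fun y hy => hYB y hy _ (B.inv_mem hz)⟩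
      · rw [hz]
        exact ⟨hYa, hYa'⟩
      · rw [Set.mem_singleton_iff] at hz
        rw [hz]
        exact ⟨hYb, hYb'⟩
    | one =>
      refine ⟨fun y hy => ?_, fun y hy => ?_⟩
      · rwa [mul_one]
      · rwa [inv_one, mul_one]
    | mul g₁ g₂ _ _ ih₁ ih₂ =>
      refine ⟨fun y hy => ?_, fun y hy => ?_⟩
      · rw [← mul_assoc]
        exact ih₂.1 _ (ih₁.1 y hy)
      · rw [mul_inv_rev, ← mul_assoc]
        exact ih₁.2 _ (ih₂.2 y hy)
    | inv g₁ _ ih =>
      refine ⟨ih.2, fun y hy => ?_⟩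
      rw [inv_inv]
      exact ih.1 y hy
  have h1Y : (1 : G) ∈ Y := by
    rw [hmemY]
    exact Or.inl B.one_mem
  have hYuniv : Y = Set.univ := by
    rw [Set.eq_univ_iff_forall]
    intro g
    have := (hall g).1 1 h1Y
    rwa [one_mul] at this
  -- counting
  have c0 := cnt_card (B := B) (x := x) (n := n) []
  have c1 := cnt_card (B := B) (x := x) (n := n) [false]
  have c2 := cnt_card (B := B) (x := x) (n := n) [true]
  have c3 := cnt_card (B := B) (x := x) (n := n) [true, false]
  have c4 := cnt_card (B := B) (x := x) (n := n) [false, true]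
  have c5 := cnt_card (B := B) (x := x) (n := n) [false, true, false]
  have hYfin : Y.Finite := by
    rw [hY]
    exact ((((c0.1.union c1.1).union c2.1).union c3.1).union c4.1).union c5.1
  have hGfin : Finite G := by
    rw [hYuniv] at hYfin
    exact Set.finite_univ_iff.mp hYfin
  refine ⟨hGfin, ?_⟩
  have hcardG : Nat.card G = Y.ncard := by
    rw [hYuniv, Set.ncard_univ]
  rw [hcardG, hY]
  set q := Fintype.card F with hq
  have l0 : ([] : List Bool).length = 0 := rfl
  have l1 : ([false] : List Bool).length = 1 := rfl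
  have l2 : ([true] : List Bool).length = 1 := rfl
  have l3 : ([true, false] : List Bool).length = 2 := rfl
  have l4 : ([false, true] : List Bool).length = 2 := rfl
  have l5 : ([false, true, false] : List Bool).length = 3 := rfl
  have b0 := c0.2
  have b1 := c1.2
  have b2 := c2.2
  have b3 := c3.2
  have b4 := c4.2
  have b5 := c5.2
  rw [l0] at b0
  rw [l1] at b1
  rw [l2] at b2
  rw [l3] at b3
  rw [l4] at b4
  rw [l5] at b5
  have u1 := Set.ncard_union_le (cnt_cell B x n []) (cnt_cell B x n [false])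
  have u2 := Set.ncard_union_le (cnt_cell B x n [] ∪ cnt_cell B x n [false]) (cnt_cell B x n [true])
  have u3 := Set.ncard_union_le (cnt_cell B x n [] ∪ cnt_cell B x n [false] ∪ cnt_cell B x n [true])
    (cnt_cell B x n [true, false])
  have u4 := Set.ncard_union_le (cnt_cell B x n [] ∪ cnt_cell B x n [false] ∪ cnt_cell B x n [true] ∪
    cnt_cell B x n [true, false]) (cnt_cell B x n [false, true])
  have u5 := Set.ncard_union_le (cnt_cell B x n [] ∪ cnt_cell B x n [false] ∪ cnt_cell B x n [true] ∪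
    cnt_cell B x n [true, false] ∪ cnt_cell B x n [false, true]) (cnt_cell B x n [false, true, false])
  have hsum : Nat.card B * (1 + 2 * q + 2 * q ^ 2 + q ^ 3) =
      Nat.card B * q ^ 0 + Nat.card B * q ^ 1 + Nat.card B * q ^ 1 + Nat.card B * q ^ 2 +
        Nat.card B * q ^ 2 + Nat.card B * q ^ 3 := by
    ring
  rw [hsum]
  omega

end Cfsg.Agent.SL3Pres
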