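import Cfsg.Agent.SL3Pres.H4_A2Spread

/-!
# Presentations of `SL₃(F)`: spreading the `A₂` commutator relation for `|F| = 4` (helper4)

For `|F| = 4` the cubes do not generate `F`; the two relations `[x 1, y 1] = z e` and
`[x ζ, y 1] = z (e ζ)` suffice (`a2_spread_four`).
-/

set_option autoImplicit false

namespace Cfsg.Agent.SL3Pres

open Cfsg.Agent.SL2Pres Cfsg.Agent.Sp4Pres

section four

variable {F : Type*} [Field F] [Fintype F]

theorem a2_four_two (hq : Fintype.card F = 4) : (2 : F) = 0 := by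
  have h := FiniteField.cast_card_eq_zero F
  rw [hq] at h
  have h4 : (2 : F) ^ 2 = 0 := by
    have : ((4 : ℕ) : F) = (2 : F) ^ 2 := by norm_num
    rw [← this]; exact h
  exact pow_eq_zero_iff (two_ne_zero) |>.mp h4

theorem a2_four_cube (ζ : Fˣ) (hq : Fintype.card F = 4) : (ζ : F) ^ 3 = 1 := by
  have := FiniteField.pow_card_sub_one_eq_one (ζ : F) ζ.ne_zero
  rwa [hq] at this

theorem a2_four_ne_one (ζ : Fˣ) (hζ : ∀ a : Fˣ, a ∈ Subgroup.zpowers ζ)
    (hq : Fintype.card F = 4) : (ζ : F) ≠ 1 := by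
  classical
  intro h
  have hord : orderOf ζ = Fintype.card F - 1 := by
    rw [orderOf_eq_card_of_forall_mem_zpowers hζ, Nat.card_eq_fintype_card, Fintype.card_units]
  have h1 : ζ = 1 := Units.ext (by rw [h, Units.val_one])
  rw [h1, orderOf_one, hq] at hord
  omega

theorem a2_four_sum (ζ : Fˣ) (hζ : ∀ a : Fˣ, a ∈ Subgroup.zpowers ζ)
    (hq : Fintype.card F = 4) : 1 + (ζ : F) + (ζ : F) ^ 2 = 0 := by
  have h3 := a2_four_cube ζ hq
  have hne := a2_four_ne_one ζ hζ hq
  have : ((ζ : F) - 1) * (1 + (ζ : F) + (ζ : F) ^ 2) = 0 := by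
    have : ((ζ : F) - 1) * (1 + (ζ : F) + (ζ : F) ^ 2) = (ζ : F) ^ 3 - 1 := by ring
    rw [this, h3, sub_self]
  rcases mul_eq_zero.mp this with h | h
  · exact absurd (sub_eq_zero.mp h) hne
  · exact h

/-- `ζ = 1 + ζ²` in `𝔽₄` -/
theorem a2_four_zeta (ζ : Fˣ) (hζ : ∀ a : Fˣ, a ∈ Subgroup.zpowers ζ)
    (hq : Fintype.card F = 4) : (ζ : F) = 1 + (ζ : F) ^ 2 := by
  have h := a2_four_sum ζ hζ hq
  have h2 := a2_four_two hq
  linear_combination (-1 : F) * h + (ζ : F) * h2

theorem a2_four_enum (ζ : Fˣ) (hζ : ∀ a : Fˣ, a ∈ Subgroup.zpowers ζ)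
    (hq : Fintype.card F = 4) (a : F) (ha : a ≠ 0) :
    a = 1 ∨ a = (ζ : F) ∨ a = (ζ : F) ^ 2 := by
  obtain ⟨n, rfl⟩ := fd_exists_pow' ζ hζ a ha
  have h3 := a2_four_cube ζ hq
  have hn : (ζ : F) ^ n = (ζ : F) ^ (n % 3) := by
    conv_lhs => rw [← Nat.div_add_mod n 3, pow_add, pow_mul, h3, one_pow, one_mul]
  rw [hn]
  have : n % 3 < 3 := Nat.mod_lt _ (by norm_num)
  interval_cases (n % 3)
  · left; rw [pow_zero]
  · right; left; rw [pow_one]
  · right; right; rfl

/-- in `𝔽₄`: a predicate closed under addition, true at `0`, `d` and `ζ² d` (`d ≠ 0`), is true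
everywhere -/
theorem a2_four_span (ζ : Fˣ) (hζ : ∀ a : Fˣ, a ∈ Subgroup.zpowers ζ)
    (hq : Fintype.card F = 4) (Q : F → Prop) (hadd : ∀ a b, Q a → Q b → Q (a + b)) (h0 : Q 0)
    (d : F) (hd : d ≠ 0) (h1 : Q d) (h2 : Q ((ζ : F) ^ 2 * d)) : ∀ c, Q c := by
  intro c
  by_cases hc : c = 0
  · rw [hc]; exact h0
  · have hcd : c / d ≠ 0 := div_ne_zero hc hd
    have e : c = (c / d) * d := by rw [div_mul_cancel₀ _ hd]
    rcases a2_four_enum ζ hζ hq (c / d) hcd with h | h | h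
    · rw [e, h, one_mul]; exact h1
    · rw [e, h, a2_four_zeta ζ hζ hq, add_mul, one_mul]
      exact hadd _ _ h1 h2
    · rw [e, h]; exact h2

end four

section main

variable {G : Type*} [Group G] {F : Type*} [Field F] [Fintype F]
  {ζ : Fˣ} {x y z : F → G} {h1 h2 : G}

omit [Fintype F] in
/-- scaling both parameters by `ζ` (torus element `(1,1)`) -/
theorem a2_P_scale (D : A2Data ζ x y z h1 h2) (e a b : F) (h : A2P x y z e a b) :
    A2P x y z e ((ζ : F) * a) ((ζ : F) * b) := by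
  have := a2_P_orbit D e 1 1 a b h
  have e1 : (2 : ℤ) * 1 - 1 = 1 := by norm_num
  rwa [e1, zpow_one] at this

/-- **`A₂` spreading, `|F| = 4`**: from `[x 1, y 1] = z e` and `[x ζ, y 1] = z (e ζ)`. -/
theorem a2_spread_four (D : A2Data ζ x y z h1 h2) (hζ : ∀ a : Fˣ, a ∈ Subgroup.zpowers ζ)
    (hq : Fintype.card F = 4) (e : F) (he : e ≠ 0)
    (hB : x 1 * y 1 * (x 1)⁻¹ * (y 1)⁻¹ = z e)
    (hB' : x (ζ : F) * y 1 * (x (ζ : F))⁻¹ * (y 1)⁻¹ = z (e * (ζ : F))) :
    (∀ a d, Commute (x a) (z d)) ∧ (∀ b d, Commute (y b) (z d)) ∧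
      ∀ a b, x a * y b * (x a)⁻¹ * (y b)⁻¹ = z (e * (a * b)) := by
  have h3 := a2_four_cube ζ hq
  have hz12 : (ζ : F) * (ζ : F) ^ 2 = 1 := by rw [← pow_succ']; exact h3
  have hz21 : (ζ : F) ^ 2 * (ζ : F) = 1 := by rw [← pow_succ]; exact h3
  have hz22 : (ζ : F) ^ 2 * (ζ : F) ^ 2 = ζ := by
    rw [← pow_add, show 2 + 2 = 3 + 1 by norm_num, pow_add, h3, one_mul, pow_one]
  have hz0 : z 0 = 1 := x_zero z D.addz
  have hx0 : x 0 = 1 := x_zero x D.addx
  have hy0 : y 0 = 1 := x_zero y D.addy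
  -- the relation on the two lines `b = a` and `b = ζ² a`
  have hP11 : A2P x y z e 1 1 := by
    unfold A2P; rw [mul_one, mul_one]; exact hB
  have hPz1 : A2P x y z e (ζ : F) 1 := by
    unfold A2P; rw [mul_one]; exact hB'
  have hdiag : ∀ a : F, a ≠ 0 → A2P x y z e a a := by
    intro a ha
    have hPzz := a2_P_scale D e 1 1 hP11
    rw [mul_one] at hPzz
    have hPz2 := a2_P_scale D e _ _ hPzz
    rw [← pow_two] at hPz2
    rcases a2_four_enum ζ hζ hq a ha with h | h | h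
    · rw [h]; exact hP11
    · rw [h]; exact hPzz
    · rw [h]; exact hPz2
  have hline : ∀ a : F, a ≠ 0 → A2P x y z e a ((ζ : F) ^ 2 * a) := by
    intro a ha
    -- `(ζ,1) → (ζ², ζ) → (1, ζ²)`
    have hP1 := a2_P_scale D e _ _ hPz1
    rw [mul_one, ← pow_two] at hP1
    have hP2 := a2_P_scale D e _ _ hP1
    rw [hz12, ← pow_two] at hP2
    rcases a2_four_enum ζ hζ hq a ha with h | h | h
    · rw [h, mul_one]; exact hP2
    · rw [h, hz21]; exact hPz1
    · rw [h, hz22]; exact hP1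
  -- commutations
  have hxz : ∀ a d, Commute (x a) (z d) := by
    intro a d
    by_cases ha : a = 0
    · rw [ha, hx0]; exact Commute.one_left _
    · have c1 := a2_comm_x_of_P D hζ e a a (hdiag a ha)
      have c2 := a2_comm_x_of_P D hζ e a _ (hline a ha)
      have e2 : e * (a * ((ζ : F) ^ 2 * a)) = (ζ : F) ^ 2 * (e * (a * a)) := by ring
      rw [e2] at c2
      exact a2_four_span ζ hζ hq (fun d => Commute (x a) (z d))
        (fun d d' h h' => a2_commute_add_right x z D.addz a d d' h h')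
        (by show Commute (x a) (z 0); rw [hz0]; exact Commute.one_right _)
        (e * (a * a)) (mul_ne_zero he (mul_ne_zero ha ha)) c1 c2 d
  have hyz : ∀ b d, Commute (y b) (z d) := by
    intro b d
    by_cases hb : b = 0
    · rw [hb, hy0]; exact Commute.one_left _
    · -- `P(b,b)` and `P(ζ b, b)` (the latter is `P(a, ζ² a)` at `a = ζ b`)
      have c1 := a2_comm_y_of_P D hζ e b b (hdiag b hb)
      have hzb : (ζ : F) * b ≠ 0 := mul_ne_zero ζ.ne_zero hb
      have hl := hline ((ζ : F) * b) hzb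
      have e3 : (ζ : F) ^ 2 * ((ζ : F) * b) = b := by
        rw [← mul_assoc, hz21, one_mul]
      rw [e3] at hl
      have c2 := a2_comm_y_of_P D hζ e _ b hl
      -- `e (ζ b) b = ζ (e b b)`; rewrite `e b b` as `ζ² · (ζ · (e b b))`
      have c1' : Commute (y b) (z ((ζ : F) ^ 2 * ((ζ : F) * (e * (b * b))))) := by
        have : (ζ : F) ^ 2 * ((ζ : F) * (e * (b * b))) = e * (b * b) := by
          rw [← mul_assoc, hz21, one_mul]
        rw [this]; exact c1
      have e2 : e * ((ζ : F) * b * b) = (ζ : F) * (e * (b * b)) := by ring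
      rw [e2] at c2
      exact a2_four_span ζ hζ hq (fun d => Commute (y b) (z d))
        (fun d d' h h' => a2_commute_add_right y z D.addz b d d' h h')
        (by show Commute (y b) (z 0); rw [hz0]; exact Commute.one_right _)
        ((ζ : F) * (e * (b * b)))
        (mul_ne_zero ζ.ne_zero (mul_ne_zero he (mul_ne_zero hb hb))) c2 c1' d
  refine ⟨hxz, hyz, ?_⟩
  intro a b
  by_cases ha : a = 0
  · rw [ha, hx0, zero_mul, mul_zero, hz0]; group
  · exact a2_four_span ζ hζ hq (fun b => A2P x y z e a b)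
      (fun b b' h h' => a2_P_add_right D hyz e a b b' h h')
      (by show A2P x y z e a 0
          unfold A2P
          rw [hy0, mul_zero, mul_zero, hz0]; group)
      a ha (hdiag a ha) (hline a ha) b

end main

end Cfsg.Agent.SL3Pres
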