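import Cfsg.Agent.SL3Pres.H4_Field

/-!
# Presentations of `SL₃(F)`: spreading the commutator relation of type `A₂` (helper4)

Abstract setting (`A2Data`): three additive maps `x y z : F → G` (the root groups of `α`, `β`,
`α+β`) and two commuting-free "torus" elements `h1 h2` such that `h1^i h2^j` acts on them through the
characters `ζ^(2i-j)`, `ζ^(2j-i)`, `ζ^(i+j)`.

From the single relation `[x 1, y 1] = z e` we get, for `|F| ≠ 4` (`a2_spread`):
* `z` commutes with `x` and `y` (sign trick: the torus orbit of `(1,1)` contains `(-1,1)`, `(1,-1)`,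
  and `[x⁻¹,y] = x⁻¹[x,y]⁻¹x`; in characteristic 2 this is the involution trick),
* `[x a, y b] = z (e a b)` for all `a b` (biadditivity and `F = 𝔽_p[ζ³]`).
For `|F| = 4` the same holds given the second relation `[x ζ, y 1] = z (e ζ)` (`a2_spread_four`).
-/

set_option autoImplicit false

namespace Cfsg.Agent.SL3Pres

open Cfsg.Agent.SL2Pres Cfsg.Agent.Sp4Pres

section group

variable {G : Type*} [Group G]

theorem a2_conj_comm (g p q : G) :
    g * (p * q * p⁻¹ * q⁻¹) * g⁻¹ =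
      (g * p * g⁻¹) * (g * q * g⁻¹) * (g * p * g⁻¹)⁻¹ * (g * q * g⁻¹)⁻¹ := by group

/-- sign trick, first variable: `[p,q] = w` and `[p⁻¹,q] = w⁻¹` make `p` commute with `w` -/
theorem a2_comm_of_neg_left (p q w : G) (h1 : p * q * p⁻¹ * q⁻¹ = w)
    (h2 : p⁻¹ * q * p⁻¹⁻¹ * q⁻¹ = w⁻¹) : Commute p w := by
  have e : p⁻¹ * q * p⁻¹⁻¹ * q⁻¹ = p⁻¹ * (p * q * p⁻¹ * q⁻¹)⁻¹ * p := by group
  rw [e, h1] at h2
  -- `p⁻¹ w⁻¹ p = w⁻¹`
  have h3 : p * w⁻¹ = w⁻¹ * p := by
    have : p * (p⁻¹ * w⁻¹ * p) = p * w⁻¹ := by rw [h2]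
    rw [← this]; group
  have h4 : Commute p w⁻¹ := h3
  exact (Commute.inv_right_iff.mp h4)

/-- sign trick, second variable -/
theorem a2_comm_of_neg_right (p q w : G) (h1 : p * q * p⁻¹ * q⁻¹ = w)
    (h2 : p * q⁻¹ * p⁻¹ * q⁻¹⁻¹ = w⁻¹) : Commute q w := by
  have e : p * q⁻¹ * p⁻¹ * q⁻¹⁻¹ = q⁻¹ * (p * q * p⁻¹ * q⁻¹)⁻¹ * q := by group
  rw [e, h1] at h2
  have h3 : q * w⁻¹ = w⁻¹ * q := by
    have : q * (q⁻¹ * w⁻¹ * q) = q * w⁻¹ := by rw [h2]
    rw [← this]; group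
  have h4 : Commute q w⁻¹ := h3
  exact (Commute.inv_right_iff.mp h4)

theorem a2_commute_conj {p q : G} (g : G) (h : Commute p q) :
    Commute (g * p * g⁻¹) (g * q * g⁻¹) := by
  show g * p * g⁻¹ * (g * q * g⁻¹) = g * q * g⁻¹ * (g * p * g⁻¹)
  have e1 : g * p * g⁻¹ * (g * q * g⁻¹) = g * (p * q) * g⁻¹ := by group
  have e2 : g * q * g⁻¹ * (g * p * g⁻¹) = g * (q * p) * g⁻¹ := by group
  rw [e1, e2, h.eq]

theorem a2_comm_mul_left (p p' q : G) :
    (p * p') * q * (p * p')⁻¹ * q⁻¹ = p * (p' * q * p'⁻¹ * q⁻¹) * p⁻¹ * (p * q * p⁻¹ * q⁻¹) := by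
  group

theorem a2_comm_mul_right (p q q' : G) :
    p * (q * q') * p⁻¹ * (q * q')⁻¹ = (p * q * p⁻¹ * q⁻¹) * (q * (p * q' * p⁻¹ * q'⁻¹) * q⁻¹) := by
  group

end group

section data

variable {G : Type*} [Group G] {F : Type*} [Field F]

/-- three additive root maps and two torus elements acting through the `A₂` characters -/
structure A2Data (ζ : Fˣ) (x y z : F → G) (h1 h2 : G) : Prop where
  addx : ∀ a b, x (a + b) = x a * x b
  addy : ∀ a b, y (a + b) = y a * y b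
  addz : ∀ a b, z (a + b) = z a * z b
  tx : ∀ (i j : ℤ) (c : F),
    (h1 ^ i * h2 ^ j) * x c * (h1 ^ i * h2 ^ j)⁻¹ = x (((ζ ^ (2 * i - j) : Fˣ) : F) * c)
  ty : ∀ (i j : ℤ) (c : F),
    (h1 ^ i * h2 ^ j) * y c * (h1 ^ i * h2 ^ j)⁻¹ = y (((ζ ^ (2 * j - i) : Fˣ) : F) * c)
  tz : ∀ (i j : ℤ) (c : F),
    (h1 ^ i * h2 ^ j) * z c * (h1 ^ i * h2 ^ j)⁻¹ = z (((ζ ^ (i + j) : Fˣ) : F) * c)

variable {ζ : Fˣ} {x y z : F → G} {h1 h2 : G}

/-- the commutator relation at the parameters `(a,b)`, with structure constant `e` -/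
def A2P (x y z : F → G) (e a b : F) : Prop :=
  x a * y b * (x a)⁻¹ * (y b)⁻¹ = z (e * (a * b))

theorem a2_char_mul (ζ : Fˣ) (i j : ℤ) :
    ((ζ ^ (i + j) : Fˣ) : F) = ((ζ ^ (2 * i - j) : Fˣ) : F) * ((ζ ^ (2 * j - i) : Fˣ) : F) := by
  rw [← Units.val_mul, ← zpow_add]
  congr 2
  ring

/-- the relation is stable under the torus -/
theorem a2_P_orbit (D : A2Data ζ x y z h1 h2) (e : F) (i j : ℤ) (a b : F)
    (h : A2P x y z e a b) :
    A2P x y z e (((ζ ^ (2 * i - j) : Fˣ) : F) * a) (((ζ ^ (2 * j - i) : Fˣ) : F) * b) := by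
  unfold A2P at h ⊢
  have := congrArg (fun g => (h1 ^ i * h2 ^ j) * g * (h1 ^ i * h2 ^ j)⁻¹) h
  rw [a2_conj_comm, D.tx, D.ty, D.tz] at this
  rw [this, a2_char_mul]
  congr 1
  ring

theorem a2_zpow_three (ζ : Fˣ) (n : ℤ) (hn : ζ ^ n = -1) :
    ((ζ ^ (3 * n) : Fˣ) : F) = -1 := by
  rw [mul_comm, zpow_mul, hn]
  norm_num

/-- `(a,b) ↦ (-a,b)` -/
theorem a2_P_neg_left (D : A2Data ζ x y z h1 h2) (hζ : ∀ a : Fˣ, a ∈ Subgroup.zpowers ζ)
    (e a b : F) (h : A2P x y z e a b) : A2P x y z e (-a) b := by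
  obtain ⟨n, hn⟩ := Subgroup.mem_zpowers_iff.mp (hζ (-1))
  have := a2_P_orbit D e (2 * n) n a b h
  have e1 : 2 * (2 * n) - n = 3 * n := by ring
  have e2 : 2 * n - 2 * n = 0 := by ring
  rw [e1, e2, a2_zpow_three ζ n hn, zpow_zero, Units.val_one, one_mul, neg_one_mul] at this
  exact this

/-- `(a,b) ↦ (a,-b)` -/
theorem a2_P_neg_right (D : A2Data ζ x y z h1 h2) (hζ : ∀ a : Fˣ, a ∈ Subgroup.zpowers ζ)
    (e a b : F) (h : A2P x y z e a b) : A2P x y z e a (-b) := by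
  obtain ⟨n, hn⟩ := Subgroup.mem_zpowers_iff.mp (hζ (-1))
  have := a2_P_orbit D e n (2 * n) a b h
  have e1 : 2 * (2 * n) - n = 3 * n := by ring
  have e2 : 2 * n - 2 * n = 0 := by ring
  rw [e1, e2, a2_zpow_three ζ n hn, zpow_zero, Units.val_one, one_mul, neg_one_mul] at this
  exact this

/-- where the relation holds, `x a` commutes with the commutator -/
theorem a2_comm_x_of_P (D : A2Data ζ x y z h1 h2) (hζ : ∀ a : Fˣ, a ∈ Subgroup.zpowers ζ)
    (e a b : F) (h : A2P x y z e a b) : Commute (x a) (z (e * (a * b))) := by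
  have h' := a2_P_neg_left D hζ e a b h
  unfold A2P at h h'
  have e1 : e * (-a * b) = -(e * (a * b)) := by ring
  rw [x_neg x D.addx, e1, x_neg z D.addz] at h'
  exact a2_comm_of_neg_left _ _ _ h h'

/-- where the relation holds, `y b` commutes with the commutator -/
theorem a2_comm_y_of_P (D : A2Data ζ x y z h1 h2) (hζ : ∀ a : Fˣ, a ∈ Subgroup.zpowers ζ)
    (e a b : F) (h : A2P x y z e a b) : Commute (y b) (z (e * (a * b))) := by
  have h' := a2_P_neg_right D hζ e a b h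
  unfold A2P at h h'
  have e1 : e * (a * -b) = -(e * (a * b)) := by ring
  rw [x_neg y D.addy, e1, x_neg z D.addz] at h'
  exact a2_comm_of_neg_right _ _ _ h h'

/-- additivity of commutation -/
theorem a2_commute_add_left (u v : F → G) (addu : ∀ a b, u (a + b) = u a * u b) (a a' d : F)
    (h : Commute (u a) (v d)) (h' : Commute (u a') (v d)) : Commute (u (a + a')) (v d) := by
  rw [addu]; exact h.mul_left h'

theorem a2_commute_add_right (u v : F → G) (addv : ∀ a b, v (a + b) = v a * v b) (a d d' : F)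
    (h : Commute (u a) (v d)) (h' : Commute (u a) (v d')) : Commute (u a) (v (d + d')) := by
  rw [addv]; exact h.mul_right h'

/-- the relation is additive in the first variable when `z` commutes with `x` -/
theorem a2_P_add_left (D : A2Data ζ x y z h1 h2) (hxz : ∀ a d, Commute (x a) (z d))
    (e a a' b : F) (h : A2P x y z e a b) (h' : A2P x y z e a' b) : A2P x y z e (a + a') b := by
  unfold A2P at h h' ⊢
  rw [D.addx, a2_comm_mul_left, h, h', (hxz a _).mul_inv_cancel, ← D.addz]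
  congr 1
  ring

/-- the relation is additive in the second variable when `z` commutes with `y` -/
theorem a2_P_add_right (D : A2Data ζ x y z h1 h2) (hyz : ∀ b d, Commute (y b) (z d))
    (e a b b' : F) (h : A2P x y z e a b) (h' : A2P x y z e a b') : A2P x y z e a (b + b') := by
  unfold A2P at h h' ⊢
  rw [D.addy, a2_comm_mul_right, h, h', (hyz b _).mul_inv_cancel, ← D.addz]
  congr 1
  ring

/-- scaling the first variable by `ζ³` -/
theorem a2_P_cube_left (D : A2Data ζ x y z h1 h2) (e a b : F) (h : A2P x y z e a b) :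
    A2P x y z e ((ζ : F) ^ 3 * a) b := by
  have := a2_P_orbit D e 2 1 a b h
  have e1 : (2 : ℤ) * 2 - 1 = 3 := by norm_num
  have e2 : (2 : ℤ) * 1 - 2 = 0 := by norm_num
  rw [e1, e2, zpow_zero, Units.val_one, one_mul] at this
  have e3 : ((ζ ^ (3 : ℤ) : Fˣ) : F) = (ζ : F) ^ 3 := by
    rw [show (3 : ℤ) = ((3 : ℕ) : ℤ) by norm_num, zpow_natCast, Units.val_pow_eq_pow_val]
  rwa [e3] at this

/-- scaling the second variable by `ζ³` -/
theorem a2_P_cube_right (D : A2Data ζ x y z h1 h2) (e a b : F) (h : A2P x y z e a b) :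
    A2P x y z e a ((ζ : F) ^ 3 * b) := by
  have := a2_P_orbit D e 1 2 a b h
  have e1 : (2 : ℤ) * 2 - 1 = 3 := by norm_num
  have e2 : (2 : ℤ) * 1 - 2 = 0 := by norm_num
  rw [e1, e2, zpow_zero, Units.val_one, one_mul] at this
  have e3 : ((ζ ^ (3 : ℤ) : Fˣ) : F) = (ζ : F) ^ 3 := by
    rw [show (3 : ℤ) = ((3 : ℕ) : ℤ) by norm_num, zpow_natCast, Units.val_pow_eq_pow_val]
  rwa [e3] at this

theorem a2_zpow_three_coe (ζ : Fˣ) : ((ζ ^ (3 : ℤ) : Fˣ) : F) = (ζ : F) ^ 3 := by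
  rw [show (3 : ℤ) = ((3 : ℕ) : ℤ) by norm_num, zpow_natCast, Units.val_pow_eq_pow_val]

/-- scaling the parameters of a commuting pair `(x a, z d)` -/
theorem a2_comm_xz_orbit (D : A2Data ζ x y z h1 h2) (i j : ℤ) (a d : F)
    (h : Commute (x a) (z d)) :
    Commute (x (((ζ ^ (2 * i - j) : Fˣ) : F) * a)) (z (((ζ ^ (i + j) : Fˣ) : F) * d)) := by
  have := a2_commute_conj (h1 ^ i * h2 ^ j) h
  rwa [D.tx, D.tz] at this

theorem a2_comm_yz_orbit (D : A2Data ζ x y z h1 h2) (i j : ℤ) (b d : F)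
    (h : Commute (y b) (z d)) :
    Commute (y (((ζ ^ (2 * j - i) : Fˣ) : F) * b)) (z (((ζ ^ (i + j) : Fˣ) : F) * d)) := by
  have := a2_commute_conj (h1 ^ i * h2 ^ j) h
  rwa [D.ty, D.tz] at this

end data

section main

variable {G : Type*} [Group G] {F : Type*} [Field F] [Fintype F]
  {ζ : Fˣ} {x y z : F → G} {h1 h2 : G}

/-- spreading commutation of `x` with `z` from one pair of non-zero parameters -/
theorem a2_comm_xz_spread (D : A2Data ζ x y z h1 h2) (hκ : AddGen ((ζ : F) ^ 3))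
    (a₀ d₀ : F) (ha₀ : a₀ ≠ 0) (hd₀ : d₀ ≠ 0) (h0 : Commute (x a₀) (z d₀)) :
    ∀ a d, Commute (x a) (z d) := by
  refine h4s_spread2 hκ hκ (fun a d => Commute (x a) (z d))
    (fun a a' d => a2_commute_add_left x z D.addx a a' d)
    (fun a d d' => a2_commute_add_right x z D.addz a d d') ?_ 1 one_ne_zero ?_ a₀ d₀ ha₀ hd₀ h0
  · -- `(i,j) = (1,-1)`: characters `(ζ³, 1)`
    intro a d h
    have := a2_comm_xz_orbit D 1 (-1) a d h
    have e1 : (2 : ℤ) * 1 - -1 = 3 := by norm_num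
    have e2 : (1 : ℤ) + -1 = 0 := by norm_num
    rwa [e1, e2, zpow_zero, Units.val_one, one_mul, a2_zpow_three_coe] at this
  · -- `(i,j) = (1,2)`: characters `(1, ζ³)`
    intro a d h
    have := a2_comm_xz_orbit D 1 2 a d h
    have e1 : (2 : ℤ) * 1 - 2 = 0 := by norm_num
    have e2 : (1 : ℤ) + 2 = 3 := by norm_num
    rwa [e1, e2, zpow_zero, Units.val_one, a2_zpow_three_coe] at this

/-- spreading commutation of `y` with `z` from one pair of non-zero parameters -/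
theorem a2_comm_yz_spread (D : A2Data ζ x y z h1 h2) (hκ : AddGen ((ζ : F) ^ 3))
    (b₀ d₀ : F) (hb₀ : b₀ ≠ 0) (hd₀ : d₀ ≠ 0) (h0 : Commute (y b₀) (z d₀)) :
    ∀ b d, Commute (y b) (z d) := by
  refine h4s_spread2 hκ hκ (fun b d => Commute (y b) (z d))
    (fun b b' d => a2_commute_add_left y z D.addy b b' d)
    (fun b d d' => a2_commute_add_right y z D.addz b d d') ?_ 1 one_ne_zero ?_ b₀ d₀ hb₀ hd₀ h0
  · -- `(i,j) = (-1,1)`: characters `(ζ³, 1)`
    intro b d h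
    have := a2_comm_yz_orbit D (-1) 1 b d h
    have e1 : (2 : ℤ) * 1 - -1 = 3 := by norm_num
    have e2 : (-1 : ℤ) + 1 = 0 := by norm_num
    rwa [e1, e2, zpow_zero, Units.val_one, one_mul, a2_zpow_three_coe] at this
  · -- `(i,j) = (2,1)`: characters `(1, ζ³)`
    intro b d h
    have := a2_comm_yz_orbit D 2 1 b d h
    have e1 : (2 : ℤ) * 1 - 2 = 0 := by norm_num
    have e2 : (2 : ℤ) + 1 = 3 := by norm_num
    rwa [e1, e2, zpow_zero, Units.val_one, a2_zpow_three_coe] at this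

/-- **`A₂` spreading, `|F| ≠ 4`**: from `[x 1, y 1] = z e` (`e ≠ 0`) alone, `z` is central in
`⟨x, y, z⟩` and `[x a, y b] = z (e a b)` for all `a b`. -/
theorem a2_spread (D : A2Data ζ x y z h1 h2) (hζ : ∀ a : Fˣ, a ∈ Subgroup.zpowers ζ)
    (hq4 : Fintype.card F ≠ 4) (e : F) (he : e ≠ 0)
    (hB : x 1 * y 1 * (x 1)⁻¹ * (y 1)⁻¹ = z e) :
    (∀ a d, Commute (x a) (z d)) ∧ (∀ b d, Commute (y b) (z d)) ∧
      ∀ a b, x a * y b * (x a)⁻¹ * (y b)⁻¹ = z (e * (a * b)) := by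
  have hκ := addGen_zeta_cube ζ hζ hq4
  have hP11 : A2P x y z e 1 1 := by
    unfold A2P; rw [mul_one, mul_one]; exact hB
  have c1 := a2_comm_x_of_P D hζ e 1 1 hP11
  have c2 := a2_comm_y_of_P D hζ e 1 1 hP11
  rw [mul_one, mul_one] at c1 c2
  have hxz := a2_comm_xz_spread D hκ 1 e one_ne_zero he c1
  have hyz := a2_comm_yz_spread D hκ 1 e one_ne_zero he c2
  refine ⟨hxz, hyz, ?_⟩
  exact h4s_spread2 hκ hκ (fun a b => A2P x y z e a b)
    (fun a a' b => a2_P_add_left D hxz e a a' b)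
    (fun a b b' => a2_P_add_right D hyz e a b b')
    (fun a b => a2_P_cube_left D e a b) 1 one_ne_zero
    (fun a b h => by rw [one_mul]; exact a2_P_cube_right D e a b h)
    1 1 one_ne_zero one_ne_zero hP11

end main

end Cfsg.Agent.SL3Pres
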