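import Cfsg.Agent.SL3Pres.H4_A2Spread
import Cfsg.Agent.Sp4Pres.Unip

/-!
# Presentations of `SL₃(F)`: the unipotent subgroups of type `A₂`, abstractly (helper4)

Setting (`A2Rel`): three additive maps `x y z : F → G` (root groups of `α`, `β`, `α+β`) with `z`
commuting with `x` and `y` and `[x a, y b] = z (e a b)`.  Then
* `a2_V1 = Y·Z` (abelian), `a2_V2 = X·Z`, `a2_U = X·Y·Z` are subgroups, `|U| ≤ q³`,
* `U = X·V1 = V1·X = Y·V2 = V2·Y`,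
* an element acting on `x y z` by scalars normalises all three; an element swapping `Y` and `Z`
  normalises `V1`, one swapping `X` and `Z` normalises `V2`.
-/

set_option autoImplicit false

namespace Cfsg.Agent.SL3Pres

open Cfsg.Agent.SL2Pres Cfsg.Agent.Sp4Pres

section rel

variable {G : Type*} [Group G] {F : Type*} [Field F]

/-- the Chevalley commutator relations of type `A₂` for three additive maps -/
structure A2Rel (x y z : F → G) (e : F) : Prop where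
  addx : ∀ a b, x (a + b) = x a * x b
  addy : ∀ a b, y (a + b) = y a * y b
  addz : ∀ a b, z (a + b) = z a * z b
  hxz : ∀ a d, Commute (x a) (z d)
  hyz : ∀ b d, Commute (y b) (z d)
  hP : ∀ a b, x a * y b * (x a)⁻¹ * (y b)⁻¹ = z (e * (a * b))

variable {x y z : F → G} {e : F}

/-- `V₁ = Y·Z` -/
def a2_V1 (R : A2Rel x y z e) : Subgroup G :=
  un_semi (un_range z R.addz) y R.addy (by
    rintro b _ ⟨d, rfl⟩
    exact ⟨d, ((R.hyz b d).mul_inv_cancel).symm⟩)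

/-- `V₂ = X·Z` -/
def a2_V2 (R : A2Rel x y z e) : Subgroup G :=
  un_semi (un_range z R.addz) x R.addx (by
    rintro a _ ⟨d, rfl⟩
    exact ⟨d, ((R.hxz a d).mul_inv_cancel).symm⟩)

theorem a2_mem_V1 (R : A2Rel x y z e) (g : G) : g ∈ a2_V1 R ↔ ∃ b d : F, g = y b * z d := by
  constructor
  · rintro ⟨b, _, ⟨d, rfl⟩, rfl⟩
    exact ⟨b, d, rfl⟩
  · rintro ⟨b, d, rfl⟩
    exact ⟨b, _, ⟨d, rfl⟩, rfl⟩

theorem a2_mem_V2 (R : A2Rel x y z e) (g : G) : g ∈ a2_V2 R ↔ ∃ a d : F, g = x a * z d := by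
  constructor
  · rintro ⟨a, _, ⟨d, rfl⟩, rfl⟩
    exact ⟨a, d, rfl⟩
  · rintro ⟨a, d, rfl⟩
    exact ⟨a, _, ⟨d, rfl⟩, rfl⟩

theorem a2_y_mem_V1 (R : A2Rel x y z e) (b : F) : y b ∈ a2_V1 R := un_x_mem_semi _ _ _ _ b

theorem a2_z_mem_V1 (R : A2Rel x y z e) (d : F) : z d ∈ a2_V1 R := un_le_semi _ _ _ _ ⟨d, rfl⟩

theorem a2_x_mem_V2 (R : A2Rel x y z e) (a : F) : x a ∈ a2_V2 R := un_x_mem_semi _ _ _ _ a

theorem a2_z_mem_V2 (R : A2Rel x y z e) (d : F) : z d ∈ a2_V2 R := un_le_semi _ _ _ _ ⟨d, rfl⟩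

/-- `x a * y b * (x a)⁻¹ = z (e a b) * y b` -/
theorem a2_x_conj_y (R : A2Rel x y z e) (a b : F) :
    x a * y b * (x a)⁻¹ = z (e * (a * b)) * y b := by
  rw [← R.hP a b]; group

/-- `y b * x a * (y b)⁻¹ = (z (e a b))⁻¹ * x a` -/
theorem a2_y_conj_x (R : A2Rel x y z e) (a b : F) :
    y b * x a * (y b)⁻¹ = (z (e * (a * b)))⁻¹ * x a := by
  rw [← R.hP a b]; group

/-- `X` normalises `V₁` -/
theorem a2_x_conj_V1 (R : A2Rel x y z e) (a : F) {w : G} (hw : w ∈ a2_V1 R) :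
    x a * w * (x a)⁻¹ ∈ a2_V1 R := by
  obtain ⟨b, d, rfl⟩ := (a2_mem_V1 R w).1 hw
  rw [un_conj_mul₂, a2_x_conj_y R, (R.hxz a d).mul_inv_cancel]
  exact (a2_V1 R).mul_mem ((a2_V1 R).mul_mem (a2_z_mem_V1 R _) (a2_y_mem_V1 R b))
    (a2_z_mem_V1 R d)

/-- `Y` normalises `V₂` -/
theorem a2_y_conj_V2 (R : A2Rel x y z e) (b : F) {w : G} (hw : w ∈ a2_V2 R) :
    y b * w * (y b)⁻¹ ∈ a2_V2 R := by
  obtain ⟨a, d, rfl⟩ := (a2_mem_V2 R w).1 hw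
  rw [un_conj_mul₂, a2_y_conj_x R, (R.hyz b d).mul_inv_cancel]
  exact (a2_V2 R).mul_mem
    ((a2_V2 R).mul_mem ((a2_V2 R).inv_mem (a2_z_mem_V2 R _)) (a2_x_mem_V2 R a))
    (a2_z_mem_V2 R d)

/-- `U = X·V₁` -/
def a2_U (R : A2Rel x y z e) : Subgroup G :=
  un_semi (a2_V1 R) x R.addx (fun a _ hw => a2_x_conj_V1 R a hw)

theorem a2_mem_U (R : A2Rel x y z e) (g : G) :
    g ∈ a2_U R ↔ ∃ a b d : F, g = x a * y b * z d := by
  constructor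
  · rintro ⟨a, w, hw, rfl⟩
    obtain ⟨b, d, rfl⟩ := (a2_mem_V1 R w).1 hw
    exact ⟨a, b, d, by rw [mul_assoc]⟩
  · rintro ⟨a, b, d, rfl⟩
    exact ⟨a, _, (a2_mem_V1 R _).2 ⟨b, d, rfl⟩, by rw [mul_assoc]⟩

theorem a2_V1_le_U (R : A2Rel x y z e) : a2_V1 R ≤ a2_U R := un_le_semi _ _ _ _

theorem a2_x_mem_U (R : A2Rel x y z e) (a : F) : x a ∈ a2_U R := un_x_mem_semi _ _ _ _ a

theorem a2_y_mem_U (R : A2Rel x y z e) (b : F) : y b ∈ a2_U R :=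
  a2_V1_le_U R (a2_y_mem_V1 R b)

theorem a2_z_mem_U (R : A2Rel x y z e) (d : F) : z d ∈ a2_U R :=
  a2_V1_le_U R (a2_z_mem_V1 R d)

theorem a2_V2_le_U (R : A2Rel x y z e) : a2_V2 R ≤ a2_U R := by
  intro w hw
  obtain ⟨a, d, rfl⟩ := (a2_mem_V2 R w).1 hw
  exact (a2_U R).mul_mem (a2_x_mem_U R a) (a2_z_mem_U R d)

/-- `U = X·V₁` -/
theorem a2_U_eq_mul_V1 (R : A2Rel x y z e) {u : G} (hu : u ∈ a2_U R) :
    ∃ a : F, ∃ w ∈ a2_V1 R, u = x a * w := hu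

/-- `U = V₁·X` -/
theorem a2_U_eq_V1_mul (R : A2Rel x y z e) {u : G} (hu : u ∈ a2_U R) :
    ∃ w ∈ a2_V1 R, ∃ a : F, u = w * x a := by
  obtain ⟨a, w, hw, rfl⟩ := hu
  exact ⟨x a * w * (x a)⁻¹, a2_x_conj_V1 R a hw, a, by group⟩

/-- `U = V₂·Y` -/
theorem a2_U_eq_V2_mul (R : A2Rel x y z e) {u : G} (hu : u ∈ a2_U R) :
    ∃ w ∈ a2_V2 R, ∃ b : F, u = w * y b := by
  obtain ⟨a, b, d, rfl⟩ := (a2_mem_U R u).1 hu
  refine ⟨x a * z d, (a2_mem_V2 R _).2 ⟨a, d, rfl⟩, b, ?_⟩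
  rw [mul_assoc (x a), (R.hyz b d).eq, ← mul_assoc]

/-- `U = Y·V₂` -/
theorem a2_U_eq_mul_V2 (R : A2Rel x y z e) {u : G} (hu : u ∈ a2_U R) :
    ∃ b : F, ∃ w ∈ a2_V2 R, u = y b * w := by
  obtain ⟨w, hw, b, rfl⟩ := a2_U_eq_V2_mul R hu
  refine ⟨b, y (-b) * w * (y (-b))⁻¹, a2_y_conj_V2 R (-b) hw, ?_⟩
  rw [x_neg y R.addy]; group

/-- an element acting on the three root groups by scalars normalises `U`, `V₁`, `V₂` -/
theorem a2_scal_conj_U (R : A2Rel x y z e) (k : G) (s t r : F)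
    (kx : ∀ c, k * x c * k⁻¹ = x (s * c)) (ky : ∀ c, k * y c * k⁻¹ = y (t * c))
    (kz : ∀ c, k * z c * k⁻¹ = z (r * c)) {u : G} (hu : u ∈ a2_U R) :
    k * u * k⁻¹ ∈ a2_U R := by
  obtain ⟨a, b, d, rfl⟩ := (a2_mem_U R u).1 hu
  rw [un_conj_mul₃, kx, ky, kz]
  exact (a2_mem_U R _).2 ⟨_, _, _, rfl⟩

theorem a2_scal_conj_V1 (R : A2Rel x y z e) (k : G) (t r : F)
    (ky : ∀ c, k * y c * k⁻¹ = y (t * c))
    (kz : ∀ c, k * z c * k⁻¹ = z (r * c)) {u : G} (hu : u ∈ a2_V1 R) :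
    k * u * k⁻¹ ∈ a2_V1 R := by
  obtain ⟨b, d, rfl⟩ := (a2_mem_V1 R u).1 hu
  rw [un_conj_mul₂, ky, kz]
  exact (a2_mem_V1 R _).2 ⟨_, _, rfl⟩

theorem a2_scal_conj_V2 (R : A2Rel x y z e) (k : G) (s r : F)
    (kx : ∀ c, k * x c * k⁻¹ = x (s * c))
    (kz : ∀ c, k * z c * k⁻¹ = z (r * c)) {u : G} (hu : u ∈ a2_V2 R) :
    k * u * k⁻¹ ∈ a2_V2 R := by
  obtain ⟨a, d, rfl⟩ := (a2_mem_V2 R u).1 hu
  rw [un_conj_mul₂, kx, kz]
  exact (a2_mem_V2 R _).2 ⟨_, _, rfl⟩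

/-- an element swapping `Y` and `Z` normalises `V₁` -/
theorem a2_swap_conj_V1 (R : A2Rel x y z e) (n : G)
    (ny : ∀ b, ∃ d, n * y b * n⁻¹ = z d) (nz : ∀ d, ∃ b, n * z d * n⁻¹ = y b)
    {w : G} (hw : w ∈ a2_V1 R) : n * w * n⁻¹ ∈ a2_V1 R := by
  obtain ⟨b, d, rfl⟩ := (a2_mem_V1 R w).1 hw
  obtain ⟨d', hd'⟩ := ny b
  obtain ⟨b', hb'⟩ := nz d
  rw [un_conj_mul₂, hd', hb']
  exact (a2_V1 R).mul_mem (a2_z_mem_V1 R d') (a2_y_mem_V1 R b')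

/-- an element swapping `X` and `Z` normalises `V₂` -/
theorem a2_swap_conj_V2 (R : A2Rel x y z e) (n : G)
    (nx : ∀ a, ∃ d, n * x a * n⁻¹ = z d) (nz : ∀ d, ∃ a, n * z d * n⁻¹ = x a)
    {w : G} (hw : w ∈ a2_V2 R) : n * w * n⁻¹ ∈ a2_V2 R := by
  obtain ⟨a, d, rfl⟩ := (a2_mem_V2 R w).1 hw
  obtain ⟨d', hd'⟩ := nx a
  obtain ⟨a', ha'⟩ := nz d
  rw [un_conj_mul₂, hd', ha']
  exact (a2_V2 R).mul_mem (a2_z_mem_V2 R d') (a2_x_mem_V2 R a')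

end rel

section card

variable {G : Type*} [Group G] {F : Type*} [Field F] [Fintype F] {x y z : F → G} {e : F}

/-- `|U| ≤ q³` -/
theorem a2_card_U_le (R : A2Rel x y z e) :
    Finite (a2_U R) ∧ Nat.card (a2_U R) ≤ Fintype.card F ^ 3 := by
  let f : F × F × F → G := fun p => x p.1 * y p.2.1 * z p.2.2
  have hU : ((a2_U R : Subgroup G) : Set G) = Set.range f := by
    ext g
    constructor
    · intro hg
      obtain ⟨a, b, d, rfl⟩ := (a2_mem_U R g).1 hg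
      exact ⟨(a, b, d), rfl⟩
    · rintro ⟨⟨a, b, d⟩, rfl⟩
      exact (a2_mem_U R _).2 ⟨a, b, d, rfl⟩
  have hfin : ((a2_U R : Subgroup G) : Set G).Finite := by
    rw [hU]; exact Set.finite_range f
  refine ⟨hfin, ?_⟩
  have h1 : Nat.card (a2_U R) = ((a2_U R : Subgroup G) : Set G).ncard := rfl
  rw [h1, hU]
  have h2 : (Set.range f).ncard ≤ Nat.card (F × F × F) := by
    rw [← Set.image_univ]
    calc (f '' Set.univ).ncard ≤ (Set.univ : Set (F × F × F)).ncard :=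
          Set.ncard_image_le Set.finite_univ
      _ = Nat.card (F × F × F) := Set.ncard_univ _
  refine h2.trans (le_of_eq ?_)
  rw [Nat.card_eq_fintype_card]
  simp only [Fintype.card_prod]
  ring

end card

end Cfsg.Agent.SL3Pres
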