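import Cfsg.Agent.Sp4Pres.H4_Spread

/-!
# Presentations of `SL₃(F)`: finite field facts (helper4)

* `addGen_of_subfield`: `κ` generates `F` additively (`Sp4Pres.AddGen κ`) as soon as no proper
  subfield contains `κ`.
* `addGen_zeta_cube`: for `|F| ≠ 4` the cube of a generator of `Fˣ` generates `F` additively
  (every element of `F` is a sum of cubes of units).
-/

set_option autoImplicit false

namespace Cfsg.Agent.SL3Pres

open Cfsg.Agent.SL2Pres Cfsg.Agent.Sp4Pres

section field

variable {F : Type*} [Field F] [Fintype F]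

/-- the multiplier ring of an additive subgroup of a finite field, as a subfield -/
def h4f_stab (S : AddSubgroup F) : Subfield F where
  carrier := {r | ∀ a ∈ S, r * a ∈ S}
  mul_mem' := by
    intro r r' hr hr' a ha
    rw [mul_assoc]
    exact hr _ (hr' a ha)
  one_mem' := by
    intro a ha
    rwa [one_mul]
  add_mem' := by
    intro r r' hr hr' a ha
    rw [add_mul]
    exact S.add_mem (hr a ha) (hr' a ha)
  zero_mem' := by
    intro a _
    rw [zero_mul]
    exact S.zero_mem
  neg_mem' := by
    intro r hr a ha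
    rw [neg_mul]
    exact S.neg_mem (hr a ha)
  inv_mem' := by
    intro r hr
    by_cases h0 : r = 0
    · subst h0
      intro a _
      rw [inv_zero, zero_mul]
      exact S.zero_mem
    · -- `r⁻¹ = r ^ (q - 2)`
      have hq : 2 ≤ Fintype.card F := Fintype.one_lt_card
      have h1 : r ^ (Fintype.card F - 1) = 1 := FiniteField.pow_card_sub_one_eq_one _ h0
      have h2 : r ^ (Fintype.card F - 2) * r = 1 := by
        rw [← pow_succ]
        have : Fintype.card F - 2 + 1 = Fintype.card F - 1 := by omega
        rw [this, h1]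
      have h3 : r⁻¹ = r ^ (Fintype.card F - 2) := (eq_inv_of_mul_eq_one_left h2).symm
      have key : ∀ n : ℕ, ∀ a ∈ S, r ^ n * a ∈ S := by
        intro n
        induction n with
        | zero => intro a ha; simpa using ha
        | succ n ih =>
          intro a ha
          rw [pow_succ', mul_assoc]
          exact hr _ (ih a ha)
      intro a ha
      show r⁻¹ * a ∈ S
      rw [h3]
      exact key _ a ha

theorem h4f_mem_stab (S : AddSubgroup F) (r : F) : r ∈ h4f_stab S ↔ ∀ a ∈ S, r * a ∈ S := Iff.rfl

/-- `κ` generates `F` additively as soon as no proper subfield contains it -/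
theorem addGen_of_subfield (κ : F) (h : ∀ K : Subfield F, κ ∈ K → K = ⊤) : AddGen κ := by
  intro S hS c hc hc0
  have hK : h4f_stab S = ⊤ := h _ hS
  rw [eq_top_iff]
  intro a _
  have h1 : a * c⁻¹ ∈ h4f_stab S := by rw [hK]; trivial
  have := h1 c hc
  rwa [inv_mul_cancel_right₀ hc0] at this

/-- a subfield of a finite field `F`, `|F| ≠ 4`, containing the cube of a generator of `Fˣ` is
everything -/
theorem h4f_subfield_cube (ζ : Fˣ) (hζ : ∀ a : Fˣ, a ∈ Subgroup.zpowers ζ)
    (hq4 : Fintype.card F ≠ 4) (K : Subfield F) (hK : (ζ : F) ^ 3 ∈ K) : K = ⊤ := by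
  classical
  let _ : Fintype K := Fintype.ofFinite K
  have hcard := Module.card_eq_pow_finrank (K := K) (V := F)
  set k := Fintype.card K with hk
  set m := Module.finrank K F with hm
  have hk2 : 2 ≤ k := Fintype.one_lt_card
  have hq2 : 2 ≤ Fintype.card F := Fintype.one_lt_card
  -- the order of `ζ`
  have hord : orderOf ζ = Fintype.card F - 1 := by
    rw [orderOf_eq_card_of_forall_mem_zpowers hζ, Nat.card_eq_fintype_card, Fintype.card_units]
  -- `ζ ^ (3 (k - 1)) = 1`
  have hz : ζ ^ (3 * (k - 1)) = 1 := by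
    have hz0 : (⟨(ζ : F) ^ 3, hK⟩ : K) ≠ 0 := by
      intro h0
      have := congrArg (Subtype.val) h0
      simp only [ZeroMemClass.coe_zero] at this
      exact pow_ne_zero 3 ζ.ne_zero this
    have h1 := FiniteField.pow_card_sub_one_eq_one (⟨(ζ : F) ^ 3, hK⟩ : K) hz0
    have h2 := congrArg (Subtype.val) h1
    simp only [SubmonoidClass.mk_pow, OneMemClass.coe_one] at h2
    apply Units.ext
    rw [Units.val_pow_eq_pow_val, Units.val_one, pow_mul]
    exact h2
  have hdvd : Fintype.card F - 1 ∣ 3 * (k - 1) := by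
    rw [← hord]; exact orderOf_dvd_of_pow_eq_one hz
  have hle : Fintype.card F - 1 ≤ 3 * (k - 1) := Nat.le_of_dvd (by omega) hdvd
  -- the degree
  rcases Nat.lt_or_ge m 2 with hm2 | hm2
  · -- `m ≤ 1`: `K` has `q` elements
    have hm1 : m = 1 := by
      rcases Nat.eq_zero_or_pos m with h0 | h0
      · rw [h0, pow_zero] at hcard; omega
      · omega
    rw [hm1, pow_one] at hcard
    have hinj : Function.Injective (fun x : K => (x : F)) := Subtype.val_injective
    have hbij : Function.Bijective (fun x : K => (x : F)) := by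
      rw [Fintype.bijective_iff_injective_and_card]
      exact ⟨hinj, hcard.symm⟩
    rw [eq_top_iff]
    intro a _
    obtain ⟨x, rfl⟩ := hbij.2 a
    exact x.2
  · exfalso
    have h1 : k ^ 2 ≤ Fintype.card F := by
      rw [hcard]; exact Nat.pow_le_pow_right (by omega) hm2
    obtain ⟨k', hk'⟩ : ∃ k', k = k' + 2 := ⟨k - 2, by omega⟩
    rw [hk'] at h1 hle
    have e1 : k' + 2 - 1 = k' + 1 := by omega
    rw [e1] at hle
    have hle' : Fintype.card F ≤ 3 * k' + 4 := by omega
    have h3 : k' = 0 := by nlinarith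
    rw [h3] at h1 hle'
    omega

/-- for `|F| ≠ 4` the cube of a generator of `Fˣ` generates `F` additively -/
theorem addGen_zeta_cube (ζ : Fˣ) (hζ : ∀ a : Fˣ, a ∈ Subgroup.zpowers ζ)
    (hq4 : Fintype.card F ≠ 4) : AddGen ((ζ : F) ^ 3) :=
  addGen_of_subfield _ (h4f_subfield_cube ζ hζ hq4)

end field

end Cfsg.Agent.SL3Pres
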