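import Cfsg.Agent.SL3Pres.Spread
import Cfsg.Agent.SL3Pres.Count
import Cfsg.Agent.Sp4Pres.H5_BorelA

set_option autoImplicit false
set_option linter.unusedSectionVars false

/-!
# S2287 piece Borel, part A (helper5): `B = U·H` and the hypotheses of `a2_count`

`U = a2_U R`, `V₁ = a2_V1 R = X_β X_{α+β}`, `V₂ = a2_V2 R = X_α X_{α+β}` are helper4's subgroups
(`H4_A2Unip`), for `R : A2Rel xa xb (xab xa tb) e`.
-/

namespace Cfsg.Agent.SL3Pres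

open Cfsg.Agent.SL2Pres
open Cfsg.Agent.Sp4Pres (bor_cj bor_le_normalizer bor_mem_mul bor_mem_mul' bor_card_sup)

section main

variable {G : Type*} [Group G] {F : Type*} [Field F] [Fintype F]
  {ζ : Fˣ} {xa xb : F → G} {ta ha tb hb : G} {Ka Kb : ℕ} {e : F}
  (hyp : SL3Hyp ζ xa xb ta ha tb hb Ka Kb) (R : A2Rel xa xb (xab xa tb) e)

/-- the Borel subgroup `B = U·H` -/
def b3_B : Subgroup G := a2_U R ⊔ torusSub hyp

include hyp R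

theorem b3_U_le_B : a2_U R ≤ b3_B hyp R := le_sup_left
theorem b3_H_le_B : torusSub hyp ≤ b3_B hyp R := le_sup_right

theorem b3_mem_H_iff {g : G} : g ∈ torusSub hyp ↔ ∃ i j : ℤ, g = ha ^ i * hb ^ j := Iff.rfl

/-! ### the torus normalises `U`, `V₁`, `V₂` -/

theorem b3_cj_H_U {h : G} (hh : h ∈ torusSub hyp) : bor_cj h (a2_U R) (a2_U R) := by
  obtain ⟨i, j, rfl⟩ := (b3_mem_H_iff hyp R).mp hh
  intro u hu
  exact a2_scal_conj_U R _ _ _ _ (torus_conj_xa hyp i j) (torus_conj_xb hyp i j)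
    (torus_conj_xab hyp i j) hu

theorem b3_cj_H_V1 {h : G} (hh : h ∈ torusSub hyp) : bor_cj h (a2_V1 R) (a2_V1 R) := by
  obtain ⟨i, j, rfl⟩ := (b3_mem_H_iff hyp R).mp hh
  intro u hu
  exact a2_scal_conj_V1 R _ _ _ (torus_conj_xb hyp i j) (torus_conj_xab hyp i j) hu

theorem b3_cj_H_V2 {h : G} (hh : h ∈ torusSub hyp) : bor_cj h (a2_V2 R) (a2_V2 R) := by
  obtain ⟨i, j, rfl⟩ := (b3_mem_H_iff hyp R).mp hh
  intro u hu
  exact a2_scal_conj_V2 R _ _ _ (torus_conj_xa hyp i j) (torus_conj_xab hyp i j) hu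

theorem b3_H_norm : torusSub hyp ≤ Subgroup.normalizer ((a2_U R : Subgroup G) : Set G) :=
  bor_le_normalizer (fun _ hh => b3_cj_H_U hyp R hh)

theorem b3_H_xa {h : G} (hh : h ∈ torusSub hyp) (a : F) : ∃ a', h * xa a * h⁻¹ = xa a' := by
  obtain ⟨i, j, rfl⟩ := (b3_mem_H_iff hyp R).mp hh
  exact ⟨_, torus_conj_xa hyp i j a⟩

theorem b3_H_xb {h : G} (hh : h ∈ torusSub hyp) (a : F) : ∃ a', h * xb a * h⁻¹ = xb a' := by
  obtain ⟨i, j, rfl⟩ := (b3_mem_H_iff hyp R).mp hh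
  exact ⟨_, torus_conj_xb hyp i j a⟩

/-! ### the Weyl elements -/

theorem b3_ta_V1 : bor_cj ta (a2_V1 R) (a2_V1 R) := by
  intro w hw
  refine a2_swap_conj_V1 R ta ?_ (fun d => ta_xab hyp d) hw
  intro b
  obtain ⟨e', _, h⟩ := ta_xb hyp
  exact ⟨e' * b, h b⟩

theorem b3_tai_V1 : bor_cj ta⁻¹ (a2_V1 R) (a2_V1 R) := by
  intro w hw
  refine a2_swap_conj_V1 R ta⁻¹ ?_ ?_ hw
  · intro b
    obtain ⟨c', h⟩ := ta_inv_xb hyp b
    exact ⟨c', by rw [inv_inv]; exact h⟩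
  · intro d
    obtain ⟨c', h⟩ := ta_inv_xab hyp d
    exact ⟨c', by rw [inv_inv]; exact h⟩

theorem b3_tb_V2 : bor_cj tb (a2_V2 R) (a2_V2 R) := by
  intro w hw
  exact a2_swap_conj_V2 R tb (fun a => ⟨a, rfl⟩) (fun d => tb_xab hyp d) hw

theorem b3_tbi_V2 : bor_cj tb⁻¹ (a2_V2 R) (a2_V2 R) := by
  intro w hw
  refine a2_swap_conj_V2 R tb⁻¹ ?_ ?_ hw
  · intro a
    obtain ⟨c', h⟩ := tb_inv_xa hyp a
    exact ⟨c', by rw [inv_inv]; exact h⟩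
  · intro d
    refine ⟨d, ?_⟩
    unfold xab
    group

theorem b3_ta_H : bor_cj ta (torusSub hyp) (torusSub hyp) := by
  intro h hh
  obtain ⟨i, j, rfl⟩ := (b3_mem_H_iff hyp R).mp hh
  rw [ta_torus hyp]
  exact (b3_mem_H_iff hyp R).mpr ⟨_, _, rfl⟩

theorem b3_tai_H : bor_cj ta⁻¹ (torusSub hyp) (torusSub hyp) := by
  intro h hh
  obtain ⟨i, j, rfl⟩ := (b3_mem_H_iff hyp R).mp hh
  rw [inv_inv, ta_inv_torus hyp]
  exact (b3_mem_H_iff hyp R).mpr ⟨_, _, rfl⟩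

theorem b3_tb_H : bor_cj tb (torusSub hyp) (torusSub hyp) := by
  intro h hh
  obtain ⟨i, j, rfl⟩ := (b3_mem_H_iff hyp R).mp hh
  rw [tb_torus hyp]
  exact (b3_mem_H_iff hyp R).mpr ⟨_, _, rfl⟩

theorem b3_tbi_H : bor_cj tb⁻¹ (torusSub hyp) (torusSub hyp) := by
  intro h hh
  obtain ⟨i, j, rfl⟩ := (b3_mem_H_iff hyp R).mp hh
  rw [inv_inv, tb_inv_torus hyp]
  exact (b3_mem_H_iff hyp R).mpr ⟨_, _, rfl⟩

/-! ### decompositions of `B` -/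

theorem b3_mem_B {b : G} (hb' : b ∈ b3_B hyp R) : ∃ u ∈ a2_U R, ∃ h ∈ torusSub hyp, b = u * h := by
  have hb2 : b ∈ torusSub hyp ⊔ a2_U R := by
    rw [sup_comm]
    exact hb'
  exact bor_mem_mul' (b3_H_norm hyp R) hb2

theorem b3_decomp_a {b : G} (hb' : b ∈ b3_B hyp R) :
    (∃ w ∈ a2_V1 R, ∃ h ∈ torusSub hyp, ∃ a, b = w * h * xa a) ∧
    (∃ w ∈ a2_V1 R, ∃ h ∈ torusSub hyp, ∃ a, b = xa a * w * h) := by
  obtain ⟨u, hu, h, hh, rfl⟩ := b3_mem_B hyp R hb'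
  constructor
  · obtain ⟨w, hw, a, rfl⟩ := a2_U_eq_V1_mul R hu
    obtain ⟨a', ha'⟩ := b3_H_xa hyp R ((torusSub hyp).inv_mem hh) a
    refine ⟨w, hw, h, hh, a', ?_⟩
    rw [← ha']
    group
  · obtain ⟨a, w, hw, rfl⟩ := a2_U_eq_mul_V1 R hu
    exact ⟨w, hw, h, hh, a, rfl⟩

theorem b3_decomp_b {b : G} (hb' : b ∈ b3_B hyp R) :
    (∃ w ∈ a2_V2 R, ∃ h ∈ torusSub hyp, ∃ a, b = w * h * xb a) ∧
    (∃ w ∈ a2_V2 R, ∃ h ∈ torusSub hyp, ∃ a, b = xb a * w * h) := by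
  obtain ⟨u, hu, h, hh, rfl⟩ := b3_mem_B hyp R hb'
  constructor
  · obtain ⟨w, hw, a, rfl⟩ := a2_U_eq_V2_mul R hu
    obtain ⟨a', ha'⟩ := b3_H_xb hyp R ((torusSub hyp).inv_mem hh) a
    refine ⟨w, hw, h, hh, a', ?_⟩
    rw [← ha']
    group
  · obtain ⟨a, w, hw, rfl⟩ := a2_U_eq_mul_V2 R hu
    exact ⟨w, hw, h, hh, a, rfl⟩

/-! ### cardinalities -/

theorem b3_card_H : Finite ↥(torusSub hyp) ∧ Nat.card ↥(torusSub hyp) ≤ Ka * Kb := by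
  obtain ⟨f, c⟩ := torus_finite hyp
  refine ⟨f.to_subtype, ?_⟩
  have e : Nat.card ↥(torusSub hyp) = (torus ha hb).ncard := Nat.card_coe_set_eq (torus ha hb)
  rw [e]
  exact c

theorem b3_card_B :
    Finite ↥(b3_B hyp R) ∧ Nat.card ↥(b3_B hyp R) ≤ Fintype.card F ^ 3 * (Ka * Kb) := by
  obtain ⟨f1, c1⟩ := b3_card_H hyp R
  obtain ⟨f2, c2⟩ := a2_card_U_le R
  have : Finite ↥(torusSub hyp) := f1
  have : Finite ↥(a2_U R) := f2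
  obtain ⟨f, c⟩ := bor_card_sup (torusSub hyp) (a2_U R) (b3_H_norm hyp R)
  have e : b3_B hyp R = torusSub hyp ⊔ a2_U R := sup_comm _ _
  rw [e]
  refine ⟨f, c.trans ?_⟩
  rw [mul_comm]
  exact Nat.mul_le_mul c2 c1

/-! ### the hypotheses of `a2_count` -/

theorem b3_xa_mem_B (c : F) : xa c ∈ b3_B hyp R := b3_U_le_B hyp R (a2_x_mem_U R c)

theorem b3_xb_mem_B (c : F) : xb c ∈ b3_B hyp R := b3_U_le_B hyp R (a2_y_mem_U R c)

theorem b3_xab_mem_B (c : F) : xab xa tb c ∈ b3_B hyp R := b3_U_le_B hyp R (a2_z_mem_U R c)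

theorem b3_V1_le_B : a2_V1 R ≤ b3_B hyp R := (a2_V1_le_U R).trans (b3_U_le_B hyp R)

theorem b3_V2_le_B : a2_V2 R ≤ b3_B hyp R := (a2_V2_le_U R).trans (b3_U_le_B hyp R)

theorem b3_ta_sq : ta * ta ∈ b3_B hyp R := by
  rw [← pow_two]
  exact b3_H_le_B hyp R (ta_sq_mem_torus hyp)

theorem b3_tb_sq : tb * tb ∈ b3_B hyp R := by
  rw [← pow_two]
  exact b3_H_le_B hyp R (tb_sq_mem_torus hyp)

theorem b3_ia (b : G) (hb' : b ∈ b3_B hyp R) :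
    ∃ b' ∈ b3_B hyp R, ∃ c, ta * b = b' * ta * xa c := by
  obtain ⟨w, hw, h, hh, a, rfl⟩ := (b3_decomp_a hyp R hb').1
  refine ⟨(ta * w * ta⁻¹) * (ta * h * ta⁻¹), (b3_B hyp R).mul_mem
    (b3_V1_le_B hyp R (b3_ta_V1 hyp R w hw)) (b3_H_le_B hyp R (b3_ta_H hyp R h hh)), a, ?_⟩
  group

theorem b3_ia' (b : G) (hb' : b ∈ b3_B hyp R) :
    ∃ b' ∈ b3_B hyp R, ∃ c, b * ta = xa c * ta * b' := by
  obtain ⟨w, hw, h, hh, a, rfl⟩ := (b3_decomp_a hyp R hb').2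
  refine ⟨(ta⁻¹ * w * ta⁻¹⁻¹) * (ta⁻¹ * h * ta⁻¹⁻¹), (b3_B hyp R).mul_mem
    (b3_V1_le_B hyp R (b3_tai_V1 hyp R w hw)) (b3_H_le_B hyp R (b3_tai_H hyp R h hh)), a, ?_⟩
  group

theorem b3_ib (b : G) (hb' : b ∈ b3_B hyp R) :
    ∃ b' ∈ b3_B hyp R, ∃ c, tb * b = b' * tb * xb c := by
  obtain ⟨w, hw, h, hh, a, rfl⟩ := (b3_decomp_b hyp R hb').1
  refine ⟨(tb * w * tb⁻¹) * (tb * h * tb⁻¹), (b3_B hyp R).mul_mem
    (b3_V2_le_B hyp R (b3_tb_V2 hyp R w hw)) (b3_H_le_B hyp R (b3_tb_H hyp R h hh)), a, ?_⟩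
  group

theorem b3_ib' (b : G) (hb' : b ∈ b3_B hyp R) :
    ∃ b' ∈ b3_B hyp R, ∃ c, b * tb = xb c * tb * b' := by
  obtain ⟨w, hw, h, hh, a, rfl⟩ := (b3_decomp_b hyp R hb').2
  refine ⟨(tb⁻¹ * w * tb⁻¹⁻¹) * (tb⁻¹ * h * tb⁻¹⁻¹), (b3_B hyp R).mul_mem
    (b3_V2_le_B hyp R (b3_tbi_V2 hyp R w hw)) (b3_H_le_B hyp R (b3_tbi_H hyp R h hh)), a, ?_⟩
  group

theorem b3_pow_mem_B (i : ℤ) : ha ^ i ∈ b3_B hyp R :=
  b3_H_le_B hyp R ((b3_mem_H_iff hyp R).mpr ⟨i, 0, by simp⟩)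

theorem b3_pow_mem_B' (i : ℤ) : hb ^ i ∈ b3_B hyp R :=
  b3_H_le_B hyp R ((b3_mem_H_iff hyp R).mpr ⟨0, i, by simp⟩)

theorem b3_iia (c : F) :
    ta * xa c * ta ∈ b3_B hyp R ∨
      ∃ b ∈ b3_B hyp R, ∃ b' ∈ b3_B hyp R, ta * xa c * ta = b * ta * b' := by
  by_cases hc : c = 0
  · left
    rw [hc, x_zero xa hyp.adda, mul_one]
    exact b3_ta_sq hyp R
  · right
    obtain ⟨c', k, hk⟩ := hyp.fama c hc
    refine ⟨xa c' * ha ^ k, (b3_B hyp R).mul_mem (b3_xa_mem_B hyp R c') (b3_pow_mem_B hyp R k),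
      xa c' * (ta * ta), (b3_B hyp R).mul_mem (b3_xa_mem_B hyp R c') (b3_ta_sq hyp R), ?_⟩
    have e : ta * xa c * ta = (ta * xa c * ta⁻¹) * (ta * ta) := by group
    rw [e, hk]
    group

theorem b3_iib (c : F) :
    tb * xb c * tb ∈ b3_B hyp R ∨
      ∃ b ∈ b3_B hyp R, ∃ b' ∈ b3_B hyp R, tb * xb c * tb = b * tb * b' := by
  by_cases hc : c = 0
  · left
    rw [hc, x_zero xb hyp.addb, mul_one]
    exact b3_tb_sq hyp R
  · right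
    obtain ⟨c', k, hk⟩ := hyp.famb c hc
    refine ⟨xb c' * hb ^ k, (b3_B hyp R).mul_mem (b3_xb_mem_B hyp R c') (b3_pow_mem_B' hyp R k),
      xb c' * (tb * tb), (b3_B hyp R).mul_mem (b3_xb_mem_B hyp R c') (b3_tb_sq hyp R), ?_⟩
    have e : tb * xb c * tb = (tb * xb c * tb⁻¹) * (tb * tb) := by group
    rw [e, hk]
    group

theorem b3_h1a (c : F) : ta * xb c * ta⁻¹ ∈ b3_B hyp R := by
  obtain ⟨e', _, h⟩ := ta_xb hyp
  rw [h c]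
  exact b3_xab_mem_B hyp R _

theorem b3_h1b (c : F) : tb * xa c * tb⁻¹ ∈ b3_B hyp R := b3_xab_mem_B hyp R c

theorem b3_h2a (c : F) : (ta * tb) * xa c * (ta * tb)⁻¹ ∈ b3_B hyp R := by
  obtain ⟨c', hc'⟩ := ta_xab hyp c
  have e : (ta * tb) * xa c * (ta * tb)⁻¹ = ta * xab xa tb c * ta⁻¹ := by
    unfold xab
    group
  rw [e, hc']
  exact b3_xb_mem_B hyp R c'

theorem b3_h2b (c : F) : (tb * ta) * xb c * (tb * ta)⁻¹ ∈ b3_B hyp R := by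
  obtain ⟨e', _, h⟩ := ta_xb hyp
  obtain ⟨c', hc'⟩ := tb_xab hyp (e' * c)
  have e : (tb * ta) * xb c * (tb * ta)⁻¹ = tb * (ta * xb c * ta⁻¹) * tb⁻¹ := by group
  rw [e, h c, hc']
  exact b3_xa_mem_B hyp R c'

theorem b3_braid : ∃ b ∈ b3_B hyp R, ta * tb * ta = tb * ta * tb * b := by
  obtain ⟨i, j, hij⟩ := hyp.braid
  exact ⟨ha ^ i * hb ^ j, b3_H_le_B hyp R ((b3_mem_H_iff hyp R).mpr ⟨i, j, rfl⟩), hij⟩

theorem b3_gen (hgen : Subgroup.closure {xa 1, ta, ha, xb 1, tb, hb} = ⊤) :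
    Subgroup.closure (((b3_B hyp R : Subgroup G) : Set G) ∪ {ta, tb}) = ⊤ := by
  rw [eq_top_iff, ← hgen]
  apply Subgroup.closure_mono
  intro g hg
  simp only [Set.mem_insert_iff, Set.mem_singleton_iff] at hg
  rcases hg with rfl | rfl | rfl | rfl | rfl | rfl
  · exact Or.inl (b3_xa_mem_B hyp R 1)
  · exact Or.inr (by simp)
  · have := b3_pow_mem_B hyp R 1
    rw [zpow_one] at this
    exact Or.inl this
  · exact Or.inl (b3_xb_mem_B hyp R 1)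
  · exact Or.inr (by simp)
  · have := b3_pow_mem_B' hyp R 1
    rw [zpow_one] at this
    exact Or.inl this

/-- the count, for a given `A2Rel` -/
theorem b3_card_le (hgen : Subgroup.closure {xa 1, ta, ha, xb 1, tb, hb} = ⊤) :
    Finite G ∧ Nat.card G ≤ Fintype.card F ^ 3 * (Ka * Kb) *
      (1 + 2 * Fintype.card F + 2 * Fintype.card F ^ 2 + Fintype.card F ^ 3) := by
  obtain ⟨fB, cB⟩ := b3_card_B hyp R
  have : Finite ↥(b3_B hyp R) := fB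
  obtain ⟨fG, cG⟩ := a2_count (b3_B hyp R) xa xb ta tb (b3_xa_mem_B hyp R) (b3_xb_mem_B hyp R)
    (b3_ta_sq hyp R) (b3_tb_sq hyp R) (b3_ia hyp R) (b3_ia' hyp R) (b3_ib hyp R) (b3_ib' hyp R)
    (b3_iia hyp R) (b3_iib hyp R) (b3_h1a hyp R) (b3_h1b hyp R) (b3_h2a hyp R) (b3_h2b hyp R)
    (b3_braid hyp R) (b3_gen hyp R hgen)
  exact ⟨fG, cG.trans (Nat.mul_le_mul_right _ cB)⟩

end main

end Cfsg.Agent.SL3Pres
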