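import Cfsg.Agent.SL2Pres.B
import Cfsg.Agent.SL3G.Base
import Cfsg.Agent.Helper7.LinearCard

set_option autoImplicit false

/-!
# S2287 piece Mat, layer 1 (helper5): explicit matrices in `SL_3(F)`

`m3_iota : SL_2(F) →* SL_3(F)` (upper-left block), the `3`-cycle `m3_c` (`e₁ ↦ e₂ ↦ e₃ ↦ e₁`),
the six root elements, the torus elements and their conjugation formulas.
-/

namespace Cfsg.Agent.SL3Pres

open Cfsg.Agent.SL2Pres Matrix

section mat

variable {F : Type*} [Field F]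

/-- the matrix of `diag(A, 1)` -/
def m3_blk (A : Matrix (Fin 2) (Fin 2) F) : Matrix (Fin 3) (Fin 3) F :=
  !![A 0 0, A 0 1, 0; A 1 0, A 1 1, 0; 0, 0, 1]

theorem m3_blk_det (A : Matrix (Fin 2) (Fin 2) F) : (m3_blk A).det = A.det := by
  simp [m3_blk, Matrix.det_fin_three, Matrix.det_fin_two]

theorem m3_blk_one : m3_blk (1 : Matrix (Fin 2) (Fin 2) F) = 1 := by
  ext i j
  fin_cases i <;> fin_cases j <;> simp [m3_blk]

theorem m3_blk_mul (A B : Matrix (Fin 2) (Fin 2) F) : m3_blk (A * B) = m3_blk A * m3_blk B := by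
  ext i j
  fin_cases i <;> fin_cases j <;>
    simp [m3_blk, Matrix.mul_apply, Fin.sum_univ_three, Fin.sum_univ_two]

/-- `SL₂(F) → SL₃(F)`, `A ↦ diag(A, 1)` -/
def m3_iota : SpecialLinearGroup (Fin 2) F →* SpecialLinearGroup (Fin 3) F where
  toFun A := ⟨m3_blk (A : Matrix (Fin 2) (Fin 2) F), by rw [m3_blk_det]; exact A.2⟩
  map_one' := by
    apply Subtype.ext
    show m3_blk ((1 : SpecialLinearGroup (Fin 2) F) : Matrix (Fin 2) (Fin 2) F) = _
    rw [Matrix.SpecialLinearGroup.coe_one, m3_blk_one]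
    rfl
  map_mul' A B := by
    apply Subtype.ext
    show m3_blk ((A * B : SpecialLinearGroup (Fin 2) F) : Matrix (Fin 2) (Fin 2) F) = _
    rw [Matrix.SpecialLinearGroup.coe_mul, m3_blk_mul]
    rfl

theorem m3_iota_coe (A : SpecialLinearGroup (Fin 2) F) :
    ((m3_iota A : SpecialLinearGroup (Fin 3) F) : Matrix (Fin 3) (Fin 3) F) =
      !![A 0 0, A 0 1, 0; A 1 0, A 1 1, 0; 0, 0, 1] := rfl

theorem m3_iota_injective : Function.Injective (m3_iota (F := F)) := by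
  intro A B h
  have h' := congrArg (fun M : SpecialLinearGroup (Fin 3) F => (M : Matrix (Fin 3) (Fin 3) F)) h
  simp only [m3_iota_coe] at h'
  ext i j
  fin_cases i <;> fin_cases j
  · simpa using congrFun (congrFun h' 0) 0
  · simpa using congrFun (congrFun h' 0) 1
  · simpa using congrFun (congrFun h' 1) 0
  · simpa using congrFun (congrFun h' 1) 1

/-- the `3`-cycle `e₁ ↦ e₂ ↦ e₃ ↦ e₁` -/
def m3_c : SpecialLinearGroup (Fin 3) F :=
  ⟨!![0, 0, 1; 1, 0, 0; 0, 1, 0], by simp [Matrix.det_fin_three]⟩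

/-- its inverse -/
def m3_ci : SpecialLinearGroup (Fin 3) F :=
  ⟨!![0, 1, 0; 0, 0, 1; 1, 0, 0], by simp [Matrix.det_fin_three]⟩

theorem m3_c_coe : ((m3_c : SpecialLinearGroup (Fin 3) F) : Matrix (Fin 3) (Fin 3) F) =
    !![0, 0, 1; 1, 0, 0; 0, 1, 0] := rfl

theorem m3_ci_coe : ((m3_ci : SpecialLinearGroup (Fin 3) F) : Matrix (Fin 3) (Fin 3) F) =
    !![0, 1, 0; 0, 0, 1; 1, 0, 0] := rfl

theorem m3_c_inv : (m3_c : SpecialLinearGroup (Fin 3) F)⁻¹ = m3_ci := by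
  rw [inv_eq_iff_mul_eq_one]
  apply Subtype.ext
  rw [Matrix.SpecialLinearGroup.coe_mul, m3_c_coe, m3_ci_coe, Matrix.SpecialLinearGroup.coe_one]
  ext i j
  fin_cases i <;> fin_cases j <;> simp [Matrix.mul_apply, Fin.sum_univ_three]

theorem m3_c_sq : (m3_c : SpecialLinearGroup (Fin 3) F) * m3_c = m3_ci := by
  apply Subtype.ext
  rw [Matrix.SpecialLinearGroup.coe_mul, m3_c_coe, m3_ci_coe]
  ext i j
  fin_cases i <;> fin_cases j <;> simp [Matrix.mul_apply, Fin.sum_univ_three]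

theorem m3_c_cube : (m3_c : SpecialLinearGroup (Fin 3) F) ^ 3 = 1 := by
  rw [pow_succ, pow_two, m3_c_sq, ← m3_c_inv, inv_mul_cancel]

/-- general element `(a b c; d e f; g h i)` conjugated by `m3_c`. -/
theorem m3_conj_c (M : SpecialLinearGroup (Fin 3) F) :
    ((m3_c * M * m3_c⁻¹ : SpecialLinearGroup (Fin 3) F) : Matrix (Fin 3) (Fin 3) F) =
      !![M 2 2, M 2 0, M 2 1; M 0 2, M 0 0, M 0 1; M 1 2, M 1 0, M 1 1] := by
  rw [m3_c_inv, Matrix.SpecialLinearGroup.coe_mul, Matrix.SpecialLinearGroup.coe_mul, m3_c_coe,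
    m3_ci_coe]
  ext i j
  fin_cases i <;> fin_cases j <;>
    simp [Matrix.mul_apply, Fin.sum_univ_three, Matrix.vecMul, dotProduct]

/-- general element conjugated by `m3_c⁻¹`. -/
theorem m3_conj_ci (M : SpecialLinearGroup (Fin 3) F) :
    ((m3_c⁻¹ * M * m3_c : SpecialLinearGroup (Fin 3) F) : Matrix (Fin 3) (Fin 3) F) =
      !![M 1 1, M 1 2, M 1 0; M 2 1, M 2 2, M 2 0; M 0 1, M 0 2, M 0 0] := by
  rw [m3_c_inv, Matrix.SpecialLinearGroup.coe_mul, Matrix.SpecialLinearGroup.coe_mul, m3_c_coe,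
    m3_ci_coe]
  ext i j
  fin_cases i <;> fin_cases j <;>
    simp [Matrix.mul_apply, Fin.sum_univ_three, Matrix.vecMul, dotProduct]

end mat

end Cfsg.Agent.SL3Pres
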