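import Cfsg.Agent.SL3Pres.H5_Mat3

set_option autoImplicit false

/-!
# S2287 piece Mat, layer 2 (helper5): relator identities in `SL_3(F)`, generation, order
-/

namespace Cfsg.Agent.SL3Pres

open Cfsg.Agent.SL2Pres Matrix

section mat

variable {F : Type*} [Field F]

theorem m3_x_coe (a : F) :
    ((m3_iota (xM a) : SpecialLinearGroup (Fin 3) F) : Matrix (Fin 3) (Fin 3) F) =
      !![1, a, 0; 0, 1, 0; 0, 0, 1] := by
  rw [m3_iota_coe]; simp [xM]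

theorem m3_y_coe (a : F) :
    ((m3_iota (b_yM a) : SpecialLinearGroup (Fin 3) F) : Matrix (Fin 3) (Fin 3) F) =
      !![1, 0, 0; a, 1, 0; 0, 0, 1] := by
  rw [m3_iota_coe]; simp [b_yM]

theorem m3_t_coe :
    ((m3_iota tM : SpecialLinearGroup (Fin 3) F) : Matrix (Fin 3) (Fin 3) F) =
      !![0, 1, 0; -1, 0, 0; 0, 0, 1] := by
  rw [m3_iota_coe]; simp [tM]

theorem m3_h_coe (a : Fˣ) :
    ((m3_iota (hM a) : SpecialLinearGroup (Fin 3) F) : Matrix (Fin 3) (Fin 3) F) =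
      !![(a : F), 0, 0; 0, (a : F)⁻¹, 0; 0, 0, 1] := by
  rw [m3_iota_coe]; simp [hM]

/-- `x₂₃(a) = c x(a) c⁻¹` -/
theorem m3_x23_coe (a : F) :
    ((m3_c * m3_iota (xM a) * m3_c⁻¹ : SpecialLinearGroup (Fin 3) F) : Matrix (Fin 3) (Fin 3) F) =
      !![1, 0, 0; 0, 1, a; 0, 0, 1] := by
  rw [m3_conj_c]; simp only [m3_iota_coe]; simp [xM]

/-- `x₃₂(a) = c y(a) c⁻¹` -/
theorem m3_x32_coe (a : F) :
    ((m3_c * m3_iota (b_yM a) * m3_c⁻¹ : SpecialLinearGroup (Fin 3) F) : Matrix (Fin 3) (Fin 3) F) =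
      !![1, 0, 0; 0, 1, 0; 0, a, 1] := by
  rw [m3_conj_c]; simp only [m3_iota_coe]; simp [b_yM]

/-- `x₁₃(a) = c⁻¹ y(a) c` -/
theorem m3_x13_coe (a : F) :
    ((m3_c⁻¹ * m3_iota (b_yM a) * m3_c : SpecialLinearGroup (Fin 3) F) : Matrix (Fin 3) (Fin 3) F) =
      !![1, 0, a; 0, 1, 0; 0, 0, 1] := by
  rw [m3_conj_ci]; simp only [m3_iota_coe]; simp [b_yM]

/-- `x₃₁(a) = c⁻¹ x(a) c` -/
theorem m3_x31_coe (a : F) :
    ((m3_c⁻¹ * m3_iota (xM a) * m3_c : SpecialLinearGroup (Fin 3) F) : Matrix (Fin 3) (Fin 3) F) =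
      !![1, 0, 0; 0, 1, 0; a, 0, 1] := by
  rw [m3_conj_ci]; simp only [m3_iota_coe]; simp [xM]

/-- `h₂(a) = c h(a) c⁻¹ = diag(1, a, a⁻¹)` -/
theorem m3_h2_coe (a : Fˣ) :
    ((m3_c * m3_iota (hM a) * m3_c⁻¹ : SpecialLinearGroup (Fin 3) F) : Matrix (Fin 3) (Fin 3) F) =
      !![1, 0, 0; 0, (a : F), 0; 0, 0, (a : F)⁻¹] := by
  rw [m3_conj_c]; simp only [m3_iota_coe]; simp [hM]

/-- `h₃(a) = c⁻¹ h(a) c = diag(a⁻¹, 1, a)` -/
theorem m3_h3_coe (a : Fˣ) :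
    ((m3_c⁻¹ * m3_iota (hM a) * m3_c : SpecialLinearGroup (Fin 3) F) : Matrix (Fin 3) (Fin 3) F) =
      !![(a : F)⁻¹, 0, 0; 0, 1, 0; 0, 0, (a : F)] := by
  rw [m3_conj_ci]; simp only [m3_iota_coe]; simp [hM]

/-- `t₂ = c t c⁻¹` -/
theorem m3_t2_coe :
    ((m3_c * m3_iota tM * m3_c⁻¹ : SpecialLinearGroup (Fin 3) F) : Matrix (Fin 3) (Fin 3) F) =
      !![1, 0, 0; 0, 0, 1; 0, -1, 0] := by
  rw [m3_conj_c]; simp only [m3_iota_coe]; simp [tM]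

/-- `y(a) = t x(-a) t⁻¹` -/
theorem m3_y_eq (a : F) :
    (m3_iota tM * m3_iota (xM (-a)) * (m3_iota tM)⁻¹ : SpecialLinearGroup (Fin 3) F) = m3_iota (b_yM a) := by
  rw [← map_mul, ← map_inv, ← map_mul, b_tM_xM_yM, neg_neg]

/-! ### the relators -/

/-- (W): `t · t^c · η = c`, `η = h(-1)` (`= 1` in characteristic `2`) -/
theorem m3_rel_W :
    (m3_iota tM * (m3_c * m3_iota tM * m3_c⁻¹) * m3_iota (hM (-1)) : SpecialLinearGroup (Fin 3) F) =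
      m3_c := by
  have e2 := m3_t2_coe (F := F)
  generalize (m3_c : SpecialLinearGroup (Fin 3) F) * m3_iota tM * m3_c⁻¹ = X at e2 ⊢
  apply Subtype.ext
  rw [Matrix.SpecialLinearGroup.coe_mul, Matrix.SpecialLinearGroup.coe_mul, e2, m3_t_coe,
    m3_h_coe, m3_c_coe]
  ext i j
  fin_cases i <;> fin_cases j <;>
    simp [Matrix.mul_apply, Fin.sum_univ_three, Matrix.vecMul, dotProduct]

/-- (hh): `[h(a), h(b)^c] = 1` -/
theorem m3_rel_hh (a b : Fˣ) :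
    (m3_iota (hM a) * (m3_c * m3_iota (hM b) * m3_c⁻¹) : SpecialLinearGroup (Fin 3) F) =
      (m3_c * m3_iota (hM b) * m3_c⁻¹) * m3_iota (hM a) := by
  have e2 := m3_h2_coe b
  generalize (m3_c : SpecialLinearGroup (Fin 3) F) * m3_iota (hM b) * m3_c⁻¹ = X at e2 ⊢
  apply Subtype.ext
  rw [Matrix.SpecialLinearGroup.coe_mul, Matrix.SpecialLinearGroup.coe_mul, e2, m3_h_coe]
  ext i j
  fin_cases i <;> fin_cases j <;>
    simp [Matrix.mul_apply, Fin.sum_univ_three, Matrix.vecMul, dotProduct, mul_comm]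

/-- (tor): `h · h^c · h^{c²} = 1`  (`h^{c²} = c⁻¹ h c`) -/
theorem m3_rel_tor (a : Fˣ) :
    (m3_iota (hM a) * (m3_c * m3_iota (hM a) * m3_c⁻¹) * (m3_c⁻¹ * m3_iota (hM a) * m3_c) :
      SpecialLinearGroup (Fin 3) F) = 1 := by
  have ha : (a : F) ≠ 0 := a.ne_zero
  have e2 := m3_h2_coe a
  have e3 := m3_h3_coe a
  generalize (m3_c : SpecialLinearGroup (Fin 3) F) * m3_iota (hM a) * m3_c⁻¹ = X at e2 ⊢
  generalize (m3_c : SpecialLinearGroup (Fin 3) F)⁻¹ * m3_iota (hM a) * m3_c = Y at e3 ⊢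
  apply Subtype.ext
  rw [Matrix.SpecialLinearGroup.coe_mul, Matrix.SpecialLinearGroup.coe_mul, e2, e3, m3_h_coe,
    Matrix.SpecialLinearGroup.coe_one]
  ext i j
  fin_cases i <;> fin_cases j <;>
    simp [Matrix.mul_apply, Fin.sum_univ_three, Matrix.vecMul, dotProduct, ha]

/-- `h^{c²} = c (c h c⁻¹) c⁻¹ = c⁻¹ h c` -/
theorem m3_cc (M : SpecialLinearGroup (Fin 3) F) :
    m3_c * (m3_c * M * m3_c⁻¹) * m3_c⁻¹ = m3_c⁻¹ * M * m3_c := by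
  have h1 : (m3_c : SpecialLinearGroup (Fin 3) F) * m3_c = m3_c⁻¹ := by rw [m3_c_sq, m3_c_inv]
  have h2 : (m3_c : SpecialLinearGroup (Fin 3) F)⁻¹ * m3_c⁻¹ = m3_c := by
    rw [← _root_.mul_inv_rev, h1, inv_inv]
  calc m3_c * (m3_c * M * m3_c⁻¹) * m3_c⁻¹ = (m3_c * m3_c) * M * (m3_c⁻¹ * m3_c⁻¹) := by group
    _ = m3_c⁻¹ * M * m3_c := by rw [h1, h2]

/-- (act): `h₂(a) x(b) h₂(a)⁻¹ = x(a⁻¹ b)` -/
theorem m3_rel_act (a : Fˣ) (b : F) :
    ((m3_c * m3_iota (hM a) * m3_c⁻¹) * m3_iota (xM b) * (m3_c * m3_iota (hM a) * m3_c⁻¹)⁻¹ :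
      SpecialLinearGroup (Fin 3) F) = m3_iota (xM ((a : F)⁻¹ * b)) := by
  have ha : (a : F) ≠ 0 := a.ne_zero
  have e2 := m3_h2_coe a
  generalize (m3_c : SpecialLinearGroup (Fin 3) F) * m3_iota (hM a) * m3_c⁻¹ = X at e2 ⊢
  rw [mul_inv_eq_iff_eq_mul]
  apply Subtype.ext
  rw [Matrix.SpecialLinearGroup.coe_mul, Matrix.SpecialLinearGroup.coe_mul, e2, m3_x_coe,
    m3_x_coe]
  ext i j
  fin_cases i <;> fin_cases j <;>
    simp [Matrix.mul_apply, Fin.sum_univ_three, Matrix.vecMul, dotProduct, ha]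
  field_simp

/-- (B), general parameters: `x₁₂(a) x₂₃(b) x₁₂(a)⁻¹ x₂₃(b)⁻¹ = x₁₃(ab)` -/
theorem m3_rel_B (a b : F) :
    (m3_iota (xM a) * (m3_c * m3_iota (xM b) * m3_c⁻¹) * (m3_iota (xM a))⁻¹ *
      (m3_c * m3_iota (xM b) * m3_c⁻¹)⁻¹ : SpecialLinearGroup (Fin 3) F) =
      m3_c⁻¹ * (m3_iota tM * m3_iota (xM (-(a * b))) * (m3_iota tM)⁻¹) * m3_c := by
  rw [m3_y_eq]
  have e2 := m3_x23_coe b
  have e3 := m3_x13_coe (a * b)
  generalize (m3_c : SpecialLinearGroup (Fin 3) F) * m3_iota (xM b) * m3_c⁻¹ = X at e2 ⊢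
  generalize (m3_c : SpecialLinearGroup (Fin 3) F)⁻¹ * m3_iota (b_yM (a * b)) * m3_c = Y at e3 ⊢
  rw [mul_inv_eq_iff_eq_mul, mul_inv_eq_iff_eq_mul]
  apply Subtype.ext
  rw [Matrix.SpecialLinearGroup.coe_mul, Matrix.SpecialLinearGroup.coe_mul,
    Matrix.SpecialLinearGroup.coe_mul, e2, e3, m3_x_coe]
  ext i j
  fin_cases i <;> fin_cases j <;>
    simp [Matrix.mul_apply, Fin.sum_univ_three, Matrix.vecMul, dotProduct]

/-- (Crow): `x₁₂(a)` commutes with `x₁₃(b)` -/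
theorem m3_rel_Crow (a b : F) :
    (m3_iota (xM a) * (m3_c⁻¹ * (m3_iota tM * m3_iota (xM (-b)) * (m3_iota tM)⁻¹) * m3_c) :
      SpecialLinearGroup (Fin 3) F) =
      (m3_c⁻¹ * (m3_iota tM * m3_iota (xM (-b)) * (m3_iota tM)⁻¹) * m3_c) * m3_iota (xM a) := by
  rw [m3_y_eq]
  have e3 := m3_x13_coe b
  generalize (m3_c : SpecialLinearGroup (Fin 3) F)⁻¹ * m3_iota (b_yM b) * m3_c = Y at e3 ⊢
  apply Subtype.ext
  rw [Matrix.SpecialLinearGroup.coe_mul, Matrix.SpecialLinearGroup.coe_mul, e3, m3_x_coe]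
  ext i j
  fin_cases i <;> fin_cases j <;>
    simp [Matrix.mul_apply, Fin.sum_univ_three, Matrix.vecMul, dotProduct]

/-- (Ccol): `x₂₃(a)` commutes with `x₁₃(b)` -/
theorem m3_rel_Ccol (a b : F) :
    ((m3_c * m3_iota (xM a) * m3_c⁻¹) * (m3_c⁻¹ * (m3_iota tM * m3_iota (xM (-b)) * (m3_iota tM)⁻¹) * m3_c) :
      SpecialLinearGroup (Fin 3) F) =
      (m3_c⁻¹ * (m3_iota tM * m3_iota (xM (-b)) * (m3_iota tM)⁻¹) * m3_c) *
        (m3_c * m3_iota (xM a) * m3_c⁻¹) := by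
  rw [m3_y_eq]
  have e2 := m3_x23_coe a
  have e3 := m3_x13_coe b
  generalize (m3_c : SpecialLinearGroup (Fin 3) F) * m3_iota (xM a) * m3_c⁻¹ = X at e2 ⊢
  generalize (m3_c : SpecialLinearGroup (Fin 3) F)⁻¹ * m3_iota (b_yM b) * m3_c = Y at e3 ⊢
  apply Subtype.ext
  rw [Matrix.SpecialLinearGroup.coe_mul, Matrix.SpecialLinearGroup.coe_mul, e2, e3]
  ext i j
  fin_cases i <;> fin_cases j <;>
    simp [Matrix.mul_apply, Fin.sum_univ_three, Matrix.vecMul, dotProduct]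

/-! ### generation -/

/-- a subgroup containing `m3_iota (SL₂)` and `m3_c` is everything. -/
theorem m3_gen (K : Subgroup (SpecialLinearGroup (Fin 3) F))
    (hA : ∀ A : SpecialLinearGroup (Fin 2) F, m3_iota A ∈ K) (hc : m3_c ∈ K) : K = ⊤ := by
  have hci : (m3_c : SpecialLinearGroup (Fin 3) F)⁻¹ ∈ K := K.inv_mem hc
  apply Cfsg.Agent.SL3G.eq_top_of_elementary
  · intro s
    exact ⟨_, hA (xM s), m3_x_coe s⟩
  · intro s
    exact ⟨_, K.mul_mem (K.mul_mem hci (hA (b_yM s))) hc, m3_x13_coe s⟩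
  · intro s
    exact ⟨_, hA (b_yM s), m3_y_coe s⟩
  · intro s
    exact ⟨_, K.mul_mem (K.mul_mem hc (hA (xM s))) hci, m3_x23_coe s⟩
  · intro s
    exact ⟨_, K.mul_mem (K.mul_mem hci (hA (xM s))) hc, m3_x31_coe s⟩
  · intro s
    exact ⟨_, K.mul_mem (K.mul_mem hc (hA (b_yM s))) hci, m3_x32_coe s⟩

/-- a subgroup containing `x(a)`, `t`, `c` is everything. -/
theorem m3_gen' (K : Subgroup (SpecialLinearGroup (Fin 3) F))
    (hx : ∀ a : F, m3_iota (xM a) ∈ K) (ht : m3_iota tM ∈ K) (hc : m3_c ∈ K) : K = ⊤ := by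
  apply m3_gen K _ hc
  have h2 : (K.comap m3_iota) = ⊤ := by
    refine b_closure_XY _ (fun a => hx a) ?_
    intro a
    show m3_iota (b_yM a) ∈ K
    rw [← m3_y_eq]
    exact K.mul_mem (K.mul_mem ht (hx _)) (K.inv_mem ht)
  intro A
  have : A ∈ K.comap m3_iota := by rw [h2]; trivial
  exact this

/-! ### the order of `SL₃(F)` -/

theorem m3_card [Fintype F] :
    Nat.card (SpecialLinearGroup (Fin 3) F) =
      Fintype.card F ^ 3 * (Fintype.card F ^ 2 - 1) * (Fintype.card F ^ 3 - 1) := by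
  have hq : 2 ≤ Fintype.card F := Fintype.one_lt_card
  have h1 := Cfsg.Agent.Helper7.card_units_mul_card_SL (n := Fin 3) (F := F)
  rw [Matrix.card_GL_field] at h1
  rw [Fin.prod_univ_three] at h1
  simp only [Fin.val_zero, Fin.val_one, Fin.val_two, pow_zero, pow_one] at h1
  set q := Fintype.card F with hqdef
  have h0 : 0 < q - 1 := by omega
  apply Nat.eq_of_mul_eq_mul_left h0
  rw [h1]
  obtain ⟨r, hr⟩ : ∃ r, q = r + 2 := ⟨q - 2, by omega⟩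
  have e1 : q - 1 = r + 1 := by omega
  have e2 : q ^ 3 - 1 = r ^ 3 + 6 * r ^ 2 + 12 * r + 7 := by
    rw [hr]; ring_nf; omega
  have e3 : q ^ 3 - q = r ^ 3 + 6 * r ^ 2 + 11 * r + 6 := by
    rw [hr]; ring_nf; omega
  have e4 : q ^ 3 - q ^ 2 = r ^ 3 + 5 * r ^ 2 + 8 * r + 4 := by
    rw [hr]; ring_nf; omega
  have e5 : q ^ 2 - 1 = r ^ 2 + 4 * r + 3 := by
    rw [hr]; ring_nf; omega
  rw [e1, e2, e3, e4, e5, hr]
  ring

end mat

end Cfsg.Agent.SL3Pres
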