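import Cfsg.Agent.SL3Pres.H5_Mat3b

set_option autoImplicit false

/-!
# S2287 piece Mat, layer 3 (helper5): the relators `(B)`, `(B')` in the `t₂`-form of the blueprint
-/

namespace Cfsg.Agent.SL3Pres

open Cfsg.Agent.SL2Pres Matrix

section mat

variable {F : Type*} [Field F]

/-- `t₂ x₁₂(s) t₂⁻¹ = x₁₃(-s)` -/
theorem m3_t2_x (s : F) :
    ((m3_c * m3_iota tM * m3_c⁻¹) * m3_iota (xM s) * (m3_c * m3_iota tM * m3_c⁻¹)⁻¹ :
      SpecialLinearGroup (Fin 3) F) = m3_c⁻¹ * m3_iota (b_yM (-s)) * m3_c := by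
  have e2 := m3_t2_coe (F := F)
  have e3 := m3_x13_coe (-s)
  generalize (m3_c : SpecialLinearGroup (Fin 3) F) * m3_iota tM * m3_c⁻¹ = X at e2 ⊢
  generalize (m3_c : SpecialLinearGroup (Fin 3) F)⁻¹ * m3_iota (b_yM (-s)) * m3_c = Y at e3 ⊢
  rw [mul_inv_eq_iff_eq_mul]
  apply Subtype.ext
  rw [Matrix.SpecialLinearGroup.coe_mul, Matrix.SpecialLinearGroup.coe_mul, e2, e3, m3_x_coe]
  ext i j
  fin_cases i <;> fin_cases j <;>
    simp [Matrix.mul_apply, Fin.sum_univ_three, Matrix.vecMul, dotProduct]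

/-- (B), general parameters, in the `t₂`-form:
`x₁₂(a) x₂₃(b) x₁₂(a)⁻¹ x₂₃(b)⁻¹ = t₂ x₁₂(-(ab)) t₂⁻¹` -/
theorem m3_rel_B2 (a b : F) :
    (m3_iota (xM a) * (m3_c * m3_iota (xM b) * m3_c⁻¹) * (m3_iota (xM a))⁻¹ *
      (m3_c * m3_iota (xM b) * m3_c⁻¹)⁻¹ : SpecialLinearGroup (Fin 3) F) =
      (m3_c * m3_iota tM * m3_c⁻¹) * m3_iota (xM (-(a * b))) * (m3_c * m3_iota tM * m3_c⁻¹)⁻¹ := by
  rw [m3_rel_B, m3_y_eq, m3_t2_x, neg_neg]

/-- (B) in the exact shape of the relator: `u = x(1)`, `u⁻¹ = x(1)⁻¹` -/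
theorem m3_rel_B2_one :
    (m3_iota (xM 1) * (m3_c * m3_iota (xM 1) * m3_c⁻¹) * (m3_iota (xM (1 : F)))⁻¹ *
      (m3_c * m3_iota (xM 1) * m3_c⁻¹)⁻¹ : SpecialLinearGroup (Fin 3) F) =
      (m3_c * m3_iota tM * m3_c⁻¹) * (m3_iota (xM (1 : F)))⁻¹ *
        (m3_c * m3_iota tM * m3_c⁻¹)⁻¹ := by
  rw [m3_rel_B2, mul_one, b_xM_neg, map_inv]

/-- (B') in the exact shape of the relator: `X = x(a)` -/
theorem m3_rel_B2' (a : F) :
    (m3_iota (xM a) * (m3_c * m3_iota (xM 1) * m3_c⁻¹) * (m3_iota (xM a))⁻¹ *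
      (m3_c * m3_iota (xM 1) * m3_c⁻¹)⁻¹ : SpecialLinearGroup (Fin 3) F) =
      (m3_c * m3_iota tM * m3_c⁻¹) * (m3_iota (xM a))⁻¹ *
        (m3_c * m3_iota tM * m3_c⁻¹)⁻¹ := by
  rw [m3_rel_B2, mul_one, b_xM_neg, map_inv]

/-- (W) with `η = h^M`, `ζ^M = -1` -/
theorem m3_rel_W' (ζ : Fˣ) (M : ℕ) (hM1 : ζ ^ M = -1) :
    (m3_iota tM * (m3_c * m3_iota tM * m3_c⁻¹) * m3_iota (hM ζ) ^ M :
      SpecialLinearGroup (Fin 3) F) = m3_c := by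
  have hp : ∀ n : ℕ, (hM ζ : SpecialLinearGroup (Fin 2) F) ^ n = hM (ζ ^ n) := by
    intro n
    induction n with
    | zero => rw [pow_zero, pow_zero, b_hM_one]
    | succ n ih => rw [pow_succ, pow_succ, hM_mul, ih]
  rw [← map_pow, hp, hM1]
  exact m3_rel_W

/-- (W) in characteristic `2` (`η = 1`) -/
theorem m3_rel_W_even (h2 : (2 : F) = 0) :
    (m3_iota tM * (m3_c * m3_iota tM * m3_c⁻¹) : SpecialLinearGroup (Fin 3) F) = m3_c := by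
  have h1 : (-1 : Fˣ) = 1 := by
    ext
    push_cast
    linear_combination (-1 : F) * h2
  have h := m3_rel_W (F := F)
  rw [h1, b_hM_one, map_one, mul_one] at h
  exact h

/-- (W) in characteristic `2`, with the (trivial) power of `h` of the relator word -/
theorem m3_rel_W_even' (h2 : (2 : F) = 0) (ζ : Fˣ) :
    (m3_iota tM * (m3_c * m3_iota tM * m3_c⁻¹) * m3_iota (hM ζ) ^ 0 :
      SpecialLinearGroup (Fin 3) F) = m3_c := by
  rw [pow_zero, mul_one, m3_rel_W_even h2]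

end mat

end Cfsg.Agent.SL3Pres
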