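import Cfsg.Agent.SL3Pres.H5_Mat3b

set_option autoImplicit false

/-!
# S2287 piece Mat, layer 4 (helper5): the bound of `gside4` is the order of `SL_3(F)`
-/

namespace Cfsg.Agent.SL3Pres

open Matrix

/-- `q³ (q-1)² (1 + 2q + 2q² + q³) = |SL₃(F)|` -/
theorem m3_card_bound {F : Type*} [Field F] [Fintype F] :
    Fintype.card F ^ 3 * ((Fintype.card F - 1) * (Fintype.card F - 1)) *
      (1 + 2 * Fintype.card F + 2 * Fintype.card F ^ 2 + Fintype.card F ^ 3) =
      Nat.card (SpecialLinearGroup (Fin 3) F) := by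
  rw [m3_card]
  have hq : 2 ≤ Fintype.card F := Fintype.one_lt_card
  obtain ⟨r, hr⟩ : ∃ r, Fintype.card F = r + 2 := ⟨Fintype.card F - 2, by omega⟩
  have e1 : Fintype.card F - 1 = r + 1 := by omega
  have e2 : Fintype.card F ^ 3 - 1 = r ^ 3 + 6 * r ^ 2 + 12 * r + 7 := by
    rw [hr]; ring_nf; omega
  have e5 : Fintype.card F ^ 2 - 1 = r ^ 2 + 4 * r + 3 := by
    rw [hr]; ring_nf; omega
  rw [e1, e2, e5, hr]
  ring

end Cfsg.Agent.SL3Pres
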