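import Cfsg.Agent.Sp4Pres.Hyp

/-!
# Presentation of `SL₃(F)`: the abstract hypotheses (shared base file, S2287)

Type `A₂`, simple roots `α`, `β`, positive roots `α, β, α+β`.
`xa, xb : F → G` are the root homomorphisms of the simple roots, `ta, tb` the Weyl lifts, `ha, hb` the
torus generators (`ha = h_α(ζ) = diag(ζ,ζ⁻¹,1)`, `hb = h_β(ζ) = diag(1,ζ,ζ⁻¹)`),
`xab c = tb xa(c) tb⁻¹` (root `α+β`).  In the presented group `xb, tb, hb` are the conjugates of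
`xa, ta, ha` by the fourth generator `c` (the 3-cycle).
-/

set_option autoImplicit false

namespace Cfsg.Agent.SL3Pres

open Cfsg.Agent.SL2Pres Polynomial

variable {G : Type*} [Group G] {F : Type*} [Field F]

/-- the root element of `α+β` -/
def xab (xa : F → G) (tb : G) (c : F) : G := tb * xa c * tb⁻¹

/-- the torus `{ha^i hb^j}` -/
def torus (ha hb : G) : Set G := {g | ∃ i j : ℤ, g = ha ^ i * hb ^ j}

/-- **The hypotheses on the abstract group** (all consequences of the relators). -/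
structure SL3Hyp [Fintype F] (ζ : Fˣ) (xa xb : F → G) (ta ha tb hb : G) (Ka Kb : ℕ) : Prop where
  hζ : ∀ a : Fˣ, a ∈ Subgroup.zpowers ζ
  adda : ∀ a b, xa (a + b) = xa a * xa b
  addb : ∀ a b, xb (a + b) = xb a * xb b
  ha_xa : ∀ c, ha * xa c * ha⁻¹ = xa ((ζ : F) ^ 2 * c)
  hb_xb : ∀ c, hb * xb c * hb⁻¹ = xb ((ζ : F) ^ 2 * c)
  hb_xa : ∀ c, hb * xa c * hb⁻¹ = xa ((ζ : F)⁻¹ * c)
  ha_xb : ∀ c, ha * xb c * ha⁻¹ = xb ((ζ : F)⁻¹ * c)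
  hcomm : ha * hb = hb * ha
  Ka_pos : 0 < Ka
  Kb_pos : 0 < Kb
  ha_pow : ha ^ Ka = 1
  hb_pow : hb ^ Kb = 1
  ta_ha : ta * ha * ta⁻¹ = ha⁻¹
  tb_hb : tb * hb * tb⁻¹ = hb⁻¹
  ta_hb : ta * hb * ta⁻¹ = ha * hb
  tb_ha : tb * ha * tb⁻¹ = ha * hb
  ta_sq : ∃ k : ℕ, ta ^ 2 = ha ^ k
  tb_sq : ∃ k : ℕ, tb ^ 2 = hb ^ k
  fama : ∀ c : F, c ≠ 0 → ∃ (c' : F) (k : ℤ), ta * xa c * ta⁻¹ = xa c' * ha ^ k * ta * xa c'
  famb : ∀ c : F, c ≠ 0 → ∃ (c' : F) (k : ℤ), tb * xb c * tb⁻¹ = xb c' * hb ^ k * tb * xb c'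
  braid : ∃ i j : ℤ, ta * tb * ta = tb * ta * tb * (ha ^ i * hb ^ j)
  /-- `s_α(β) = s_β(α) = α+β` -/
  s1 : ∃ e : F, e ≠ 0 ∧ ta * xb 1 * ta⁻¹ = tb * xa e * tb⁻¹
  /-- the commutator relator `(B)`: `[x_α(1), x_β(1)] = x_{α+β}(e)`; for `|F| = 4` also the relator
  `(B')`: `[x_α(ζ), x_β(1)] = x_{α+β}(e ζ)` -/
  cB : ∃ e : F, e ≠ 0 ∧ xa 1 * xb 1 * (xa 1)⁻¹ * (xb 1)⁻¹ = tb * xa e * tb⁻¹ ∧
    (Fintype.card F = 4 →
      xa (ζ : F) * xb 1 * (xa (ζ : F))⁻¹ * (xb 1)⁻¹ = tb * xa (e * (ζ : F)) * tb⁻¹)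

end Cfsg.Agent.SL3Pres
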