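import Cfsg.Agent.SL3Pres.Hyp
import Cfsg.Agent.Sp4Pres.L2

/-!
# Presentation of `SL₃(F)`: from the relations to the hypotheses `SL3Hyp` (piece L2, helper9)

`u t h` satisfy the `SL₂`-relations, `c` the cross relations `(W) t·t^c·h^M = c`, `(hh) [h,h^c] = 1`,
`(tor) h·h^c·h^{c⁻¹} = 1`, `(act) h^c u h^{-c} = x(ζ⁻¹)`, `(B) [u,u^c] = t^c u⁻¹ t^{-c}`
(and `(B')` for `|F| = 4`).  Then `xa`, `xb = xa^c`, `t`, `h`, `t^c`, `h^c` satisfy `SL3Hyp`.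
-/

set_option autoImplicit false

namespace Cfsg.Agent.SL3Pres

open Cfsg.Agent.SL2Pres Cfsg.Agent.Sp4Pres Polynomial

section grp

variable {G : Type*} [Group G]

/-- `η = h^M = t²` is an involution -/
theorem l2_eta_inv (t h : G) (M : ℕ) (hth : t * h * t⁻¹ = h⁻¹) (ht2 : t ^ 2 = h ^ M) :
    (h ^ M)⁻¹ = h ^ M := by
  have h1 : t * h ^ M * t⁻¹ = (h ^ M)⁻¹ := by
    have := map_pow (MulAut.conj t) h M
    simp only [MulAut.conj_apply] at this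
    rw [this, hth, inv_pow]
  have h2 : t * h ^ M * t⁻¹ = h ^ M := by
    rw [← ht2]; group
  rw [← h1, h2]

theorem l2_eta_comm (t h : G) (M : ℕ) (ht2 : t ^ 2 = h ^ M) : t * h ^ M = h ^ M * t := by
  rw [← ht2]; group

/-- `c hb c⁻¹ = hb⁻¹ h⁻¹` from `(tor)` -/
theorem l2_c_hb (h hb c : G) (hhb : c * h * c⁻¹ = hb) (wtor : h * hb * (c⁻¹ * h * c) = 1) :
    c * hb * c⁻¹ = hb⁻¹ * h⁻¹ := by
  have h1 : c⁻¹ * h * c = (h * hb)⁻¹ := eq_inv_of_mul_eq_one_right wtor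
  have h2 : h = c * (h * hb)⁻¹ * c⁻¹ := by rw [← h1]; group
  have h3 : c * (h * hb)⁻¹ * c⁻¹ = (c * hb * c⁻¹)⁻¹ * (c * h * c⁻¹)⁻¹ := by group
  rw [h3, hhb] at h2
  have h4 := congrArg (fun g => g⁻¹) h2
  simp only [mul_inv_rev, inv_inv] at h4
  rw [h4]; group

/-- `ta_hb` -/
theorem l2_ta_hb (t tb h hb c η : G) (wW : t * tb * η = c) (hη : η * hb = hb * η)
    (htb : tb * hb * tb⁻¹ = hb⁻¹) (hB : c * hb * c⁻¹ = hb⁻¹ * h⁻¹) :
    t * hb * t⁻¹ = h * hb := by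
  have h1 : c * hb * c⁻¹ = t * hb⁻¹ * t⁻¹ := by
    rw [← wW]
    have e : t * tb * η * hb * (t * tb * η)⁻¹ = t * (tb * (η * hb * η⁻¹) * tb⁻¹) * t⁻¹ := by group
    rw [e, hη, mul_inv_cancel_right, htb]
  rw [hB] at h1
  have h2 := congrArg (fun g => g⁻¹) h1
  simp only [mul_inv_rev, inv_inv] at h2
  rw [h2]; group

/-- `tb_ha` -/
theorem l2_tb_ha (t tb h hb c : G) (hC : t * hb * t⁻¹ = h * hb) (hct : c * t * c⁻¹ = tb)
    (hch : c * h * c⁻¹ = hb) (hB : c * hb * c⁻¹ = hb⁻¹ * h⁻¹) (htb : tb * hb * tb⁻¹ = hb⁻¹) :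
    tb * h * tb⁻¹ = h * hb := by
  have h1 : c * (t * hb * t⁻¹) * c⁻¹ = c * (h * hb) * c⁻¹ := by rw [hC]
  have e1 : c * (t * hb * t⁻¹) * c⁻¹ = (c * t * c⁻¹) * (c * hb * c⁻¹) * (c * t * c⁻¹)⁻¹ := by group
  have e2 : c * (h * hb) * c⁻¹ = (c * h * c⁻¹) * (c * hb * c⁻¹) := by group
  rw [e1, e2, hct, hch, hB] at h1
  have e3 : tb * (hb⁻¹ * h⁻¹) * tb⁻¹ = (tb * hb * tb⁻¹)⁻¹ * (tb * h * tb⁻¹)⁻¹ := by group
  rw [e3, htb, inv_inv, mul_inv_cancel_left] at h1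
  -- h1 : hb * (tb h tb⁻¹)⁻¹ = h⁻¹
  have h2 := congrArg (fun g => g⁻¹) h1
  simp only [mul_inv_rev, inv_inv] at h2
  -- h2 : tb h tb⁻¹ * hb⁻¹ = h
  exact mul_inv_eq_iff_eq_mul.mp h2

/-- the braid relation -/
theorem l2_braid (t tb c η : G) (wW : t * tb * η = c) (hct : c * t * c⁻¹ = tb)
    (hηt : t * η = η * t) : t * tb * t = tb * t * tb := by
  have h1 : c * t = tb * c := by rw [← hct]; group
  rw [← wW] at h1
  have h2 : t * tb * η * t = t * tb * t * η := by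
    rw [mul_assoc (t * tb), ← hηt, ← mul_assoc]
  have h3 : tb * (t * tb * η) = tb * t * tb * η := by group
  rw [h2, h3] at h1
  exact mul_right_cancel h1

/-- `t c = tb ηb` -/
theorem l2_t_c (t tb c η ηb : G) (wW : t * tb * η = c) (ht2 : t ^ 2 = η) (hηη : η * η = 1)
    (hconj : tb⁻¹ * η * tb = η * ηb) (hcm : η * ηb = ηb * η) : t * c = tb * ηb := by
  rw [← wW]
  have e1 : t * (t * tb * η) = t ^ 2 * tb * η := by rw [pow_two]; group
  rw [e1, ht2]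
  have e2 : η * tb * η = tb * (tb⁻¹ * η * tb) * η := by group
  rw [e2, hconj, hcm, mul_assoc tb, mul_assoc ηb, hηη, mul_one]

end grp

section main

variable {G : Type*} [Group G] {F : Type*} [Field F] [Fintype F] {p : ℕ} [Fact p.Prime]
  [Algebra (ZMod p) F]

omit [Fintype F] [Fact p.Prime] [Algebra (ZMod p) F] in
/-- inverse conjugation -/
theorem l2_conj_inv (x : F → G) (g : G) (l : F) (hl : l ≠ 0)
    (hg : ∀ a, g * x a * g⁻¹ = x (l * a)) (a : F) : g⁻¹ * x a * g = x (l⁻¹ * a) := by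
  have := hg (l⁻¹ * a)
  rw [mul_inv_cancel_left₀ hl] at this
  rw [← this]; group

/-- **From the relations to `SL3Hyp`**: `u t h` satisfy the `SL₂`-relations (the content of
`Sp4Pres.Sl2Facts`), `c` the five cross relations (six for `|F| = 4`). -/
theorem sl3_hyp_of_rels (ζ : Fˣ) (hζ : ∀ a : Fˣ, a ∈ Subgroup.zpowers ζ) (u t h c : G)
    (hu : u ^ p = 1) (hcomm : ∀ i j : ℤ, Commute (cj h u i) (cj h u j))
    (hm : polyProd h u (minpoly (ZMod p) ((ζ : F) ^ 2)) = 1)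
    (hth : t * h * t⁻¹ = h⁻¹) (M : ℕ) (ht2 : t ^ 2 = h ^ M)
    (hfam0 : t * u * t⁻¹ = u⁻¹ * t * u⁻¹)
    (Pζ Pν : (ZMod p)[X]) (hPζ : aeval ((ζ : F) ^ 2) Pζ = (ζ : F))
    (hPν : aeval ((ζ : F) ^ 2) Pν = -(ζ : F)⁻¹)
    (hν : t * polyProd h u Pζ * t⁻¹ = polyProd h u Pν * h⁻¹ * t * polyProd h u Pν)
    (Pinv : (ZMod p)[X]) (hPinv : aeval ((ζ : F) ^ 2) Pinv = (ζ : F)⁻¹)
    -- the cross relations
    (wW : t * (c * t * c⁻¹) * h ^ M = c)
    (whh : h * (c * h * c⁻¹) = (c * h * c⁻¹) * h)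
    (wtor : h * (c * h * c⁻¹) * (c⁻¹ * h * c) = 1)
    (wact : (c * h * c⁻¹) * u * (c * h * c⁻¹)⁻¹ = polyProd h u Pinv)
    (wB : u * (c * u * c⁻¹) * u⁻¹ * (c * u * c⁻¹)⁻¹ = (c * t * c⁻¹) * u⁻¹ * (c * t * c⁻¹)⁻¹)
    (wB' : Fintype.card F = 4 →
      polyProd h u Pζ * (c * u * c⁻¹) * (polyProd h u Pζ)⁻¹ * (c * u * c⁻¹)⁻¹ =
        (c * t * c⁻¹) * (polyProd h u Pζ)⁻¹ * (c * t * c⁻¹)⁻¹) :
    ∃ xa : F → G, xa 1 = u ∧
      SL3Hyp ζ xa (fun a => c * xa a * c⁻¹) t h (c * t * c⁻¹) (c * h * c⁻¹)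
        (Fintype.card F - 1) (Fintype.card F - 1) := by
  obtain ⟨xa, adda, hx1, hconj, fama, hK, -⟩ :=
    l2_data ζ hζ u t h hu hcomm hm hth hfam0 Pζ Pν hPζ hPν hν
  have hq : 2 ≤ Fintype.card F := Fintype.one_lt_card
  have hζ0 : (ζ : F) ≠ 0 := ζ.ne_zero
  set hb := c * h * c⁻¹ with hhb
  set tb := c * t * c⁻¹ with htb
  set η := h ^ M with hη
  -- elementary facts
  have ηinv : η⁻¹ = η := l2_eta_inv t h M hth ht2
  have ηη : η * η = 1 := by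
    calc η * η = η⁻¹ * η := by rw [ηinv]
      _ = 1 := inv_mul_cancel η
  have ηt : t * η = η * t := l2_eta_comm t h M ht2
  have ηhb : η * hb = hb * η := ((Commute.pow_left (show Commute h hb from whh) M)).eq
  have tb_hb : tb * hb * tb⁻¹ = hb⁻¹ := by
    have : tb * hb * tb⁻¹ = c * (t * h * t⁻¹) * c⁻¹ := by rw [hhb, htb]; group
    rw [this, hth, hhb]; group
  have hB := l2_c_hb h hb c hhb.symm wtor
  have ta_hb := l2_ta_hb t tb h hb c η wW ηhb tb_hb hB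
  have tb_ha := l2_tb_ha t tb h hb c ta_hb htb.symm hhb.symm hB tb_hb
  have braid := l2_braid t tb c η wW htb.symm ηt
  -- the mixed torus actions
  have hb_xa : ∀ a, hb * xa a * hb⁻¹ = xa ((ζ : F)⁻¹ * a) := by
    have e1 := polyProd_eq xa adda h u _ hx1 hconj Pinv
    rw [hPinv] at e1
    apply spread_conj ζ hζ xa adda h hconj hb whh.symm
    rw [hx1, wact, e1]
  have hi_xa : ∀ a, h⁻¹ * xa a * h = xa (((ζ : F) ^ 2)⁻¹ * a) :=
    l2_conj_inv xa h _ (pow_ne_zero 2 hζ0) hconj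
  have hbi_xa : ∀ a, hb⁻¹ * xa a * hb = xa (((ζ : F)⁻¹)⁻¹ * a) :=
    l2_conj_inv xa hb _ (inv_ne_zero hζ0) hb_xa
  have ha_xb : ∀ a, h * (c * xa a * c⁻¹) * h⁻¹ = c * xa ((ζ : F)⁻¹ * a) * c⁻¹ := by
    intro a
    have h1 : c⁻¹ * h * c = (h * hb)⁻¹ := eq_inv_of_mul_eq_one_right wtor
    have e : h * (c * xa a * c⁻¹) * h⁻¹ =
        c * ((c⁻¹ * h * c) * xa a * (c⁻¹ * h * c)⁻¹) * c⁻¹ := by group
    rw [e, h1]
    have e2 : (h * hb)⁻¹ * xa a * ((h * hb)⁻¹)⁻¹ = hb⁻¹ * (h⁻¹ * xa a * h) * hb := by group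
    rw [e2, hi_xa, hbi_xa]
    congr 2
    field_simp
  -- `s1`
  have hηb : c * η * c⁻¹ = hb ^ M := by rw [hη, hhb, conj_pow]
  have tbi_h : tb⁻¹ * h * tb = h * hb := by
    have : tb * (h * hb) * tb⁻¹ = h := by
      have e : tb * (h * hb) * tb⁻¹ = (tb * h * tb⁻¹) * (tb * hb * tb⁻¹) := by group
      rw [e, tb_ha, tb_hb, mul_inv_cancel_right]
    calc tb⁻¹ * h * tb = tb⁻¹ * (tb * (h * hb) * tb⁻¹) * tb := by rw [this]
      _ = h * hb := by group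
  have tbi_η : tb⁻¹ * η * tb = η * hb ^ M := by
    have := map_pow (MulAut.conj tb⁻¹) h M
    simp only [MulAut.conj_apply, inv_inv] at this
    rw [hη, this, tbi_h, (show Commute h hb from whh).mul_pow]
  have ηηb : η * hb ^ M = hb ^ M * η :=
    ((show Commute h hb from whh).pow_pow M M).eq
  have htc : t * c = tb * hb ^ M := l2_t_c t tb c η (hb ^ M) wW ht2 ηη tbi_η ηηb
  have s1 : t * (c * xa 1 * c⁻¹) * t⁻¹ = tb * xa (((ζ : F)⁻¹) ^ M * 1) * tb⁻¹ := by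
    have e : t * (c * xa 1 * c⁻¹) * t⁻¹ = (t * c) * xa 1 * (t * c)⁻¹ := by group
    rw [e, htc]
    have e2 : tb * hb ^ M * xa 1 * (tb * hb ^ M)⁻¹ = tb * (hb ^ M * xa 1 * (hb ^ M)⁻¹) * tb⁻¹ := by
      group
    rw [e2, x_conj_pow xa hb _ hb_xa]
  refine ⟨xa, hx1, ?_⟩
  exact
    { hζ := hζ
      adda := adda
      addb := by intro a b; rw [adda]; group
      ha_xa := hconj
      hb_xb := by
        intro a
        have : hb * (c * xa a * c⁻¹) * hb⁻¹ = c * (h * xa a * h⁻¹) * c⁻¹ := by rw [hhb]; group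
        rw [this, hconj]
      hb_xa := hb_xa
      ha_xb := ha_xb
      hcomm := whh
      Ka_pos := by omega
      Kb_pos := by omega
      ha_pow := hK
      hb_pow := by rw [hhb, conj_pow, hK]; group
      ta_ha := hth
      tb_hb := tb_hb
      ta_hb := ta_hb
      tb_ha := tb_ha
      ta_sq := ⟨M, ht2⟩
      tb_sq := ⟨M, by rw [htb, conj_pow, ht2, hhb, conj_pow]⟩
      fama := fama
      famb := by
        intro a ha
        obtain ⟨c', k, hck⟩ := fama a ha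
        refine ⟨c', k, ?_⟩
        have : tb * (c * xa a * c⁻¹) * tb⁻¹ = c * (t * xa a * t⁻¹) * c⁻¹ := by rw [htb]; group
        rw [this, hck, hhb, htb, conj_zpow]; group
      braid := ⟨0, 0, by rw [zpow_zero, zpow_zero, mul_one, mul_one]; exact braid⟩
      s1 := ⟨((ζ : F)⁻¹) ^ M * 1, by
        rw [mul_one]; exact pow_ne_zero M (inv_ne_zero hζ0), s1⟩
      cB := ⟨-1, by norm_num, by
        rw [hx1, x_neg xa adda, hx1]; exact wB, by
        intro h4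
        have e1 := polyProd_eq xa adda h u _ hx1 hconj Pζ
        rw [hPζ] at e1
        rw [hx1, neg_one_mul, x_neg xa adda, ← e1]
        exact wB' h4⟩ }

end main

end Cfsg.Agent.SL3Pres
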