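import Cfsg.Agent.SL3Pres.Torus
import Cfsg.Agent.Sp4Pres.H4_Spread

/-!
# Presentation of `SL₃(F)`: the root element `xab` and the Weyl action (piece Roots)
-/

set_option autoImplicit false

namespace Cfsg.Agent.SL3Pres

open Cfsg.Agent.SL2Pres

section abstract

variable {G : Type*} [Group G] {F : Type*} [Field F] [Fintype F]
  {ζ : Fˣ} {xa xb : F → G} {ta ha tb hb : G} {Ka Kb : ℕ}

theorem xab_add (hyp : SL3Hyp ζ xa xb ta ha tb hb Ka Kb) (c d : F) :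
    xab xa tb (c + d) = xab xa tb c * xab xa tb d := by
  unfold xab
  rw [hyp.adda]; group

theorem torus_conj_xab (hyp : SL3Hyp ζ xa xb ta ha tb hb Ka Kb) (i j : ℤ) (c : F) :
    (ha ^ i * hb ^ j) * xab xa tb c * (ha ^ i * hb ^ j)⁻¹ =
      xab xa tb (((ζ ^ (i + j) : Fˣ) : F) * c) := by
  unfold xab
  have e : (ha ^ i * hb ^ j) * (tb * xa c * tb⁻¹) * (ha ^ i * hb ^ j)⁻¹ =
      tb * ((tb⁻¹ * (ha ^ i * hb ^ j) * tb) * xa c * (tb⁻¹ * (ha ^ i * hb ^ j) * tb)⁻¹) * tb⁻¹ := by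
    group
  rw [e, tb_inv_torus hyp, torus_conj_xa hyp]
  congr 6
  ring

omit [Fintype F] in
theorem rt_zpow_two_coe (ζ : Fˣ) : ((ζ ^ ((1 : ℤ) + 1) : Fˣ) : F) = (ζ : F) ^ 2 := by
  rw [show ((1 : ℤ) + 1) = ((2 : ℕ) : ℤ) by norm_num, zpow_natCast, Units.val_pow_eq_pow_val]

/-- `ta X_β ta⁻¹ = X_{α+β}`, with an explicit (nonzero) scaling -/
theorem ta_xb (hyp : SL3Hyp ζ xa xb ta ha tb hb Ka Kb) :
    ∃ e : F, e ≠ 0 ∧ ∀ c, ta * xb c * ta⁻¹ = xab xa tb (e * c) := by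
  obtain ⟨e, he, h1⟩ := hyp.s1
  refine ⟨e, he, ?_⟩
  have hconj' : ∀ b, (ha * hb) * xab xa tb b * (ha * hb)⁻¹ = xab xa tb ((ζ : F) ^ 2 * b) := by
    intro b
    have := torus_conj_xab hyp 1 1 b
    rwa [zpow_one, zpow_one, rt_zpow_two_coe] at this
  exact Cfsg.Agent.Sp4Pres.h4s_action_conj (Cfsg.Agent.Sp4Pres.addGen_zeta_sq ζ hyp.hζ) xb
    (xab xa tb) hyp.addb (xab_add hyp) hb (ha * hb) ta hyp.hb_xb hconj' hyp.ta_hb e h1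

/-- conjugation by `ta²` (a torus element) on `X_β` -/
theorem rt_ta_sq_xb (hyp : SL3Hyp ζ xa xb ta ha tb hb Ka Kb) (c : F) :
    ∃ c', ta ^ 2 * xb c * (ta ^ 2)⁻¹ = xb c' := by
  obtain ⟨k, hk⟩ := hyp.ta_sq
  have h := torus_conj_xb hyp (k : ℤ) 0 c
  rw [zpow_zero, mul_one, zpow_natCast, ← hk] at h
  exact ⟨_, h⟩

theorem rt_ta_sq_inv_xb (hyp : SL3Hyp ζ xa xb ta ha tb hb Ka Kb) (c : F) :
    ∃ c', (ta ^ 2)⁻¹ * xb c * ta ^ 2 = xb c' := by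
  obtain ⟨k, hk⟩ := hyp.ta_sq
  have h := torus_conj_xb hyp (-(k : ℤ)) 0 c
  rw [zpow_zero, mul_one, zpow_neg, zpow_natCast, ← hk, inv_inv] at h
  exact ⟨_, h⟩

theorem ta_inv_xb (hyp : SL3Hyp ζ xa xb ta ha tb hb Ka Kb) (c : F) :
    ∃ c', ta⁻¹ * xb c * ta = xab xa tb c' := by
  obtain ⟨e, -, he⟩ := ta_xb hyp
  obtain ⟨c', hc'⟩ := rt_ta_sq_inv_xb hyp c
  refine ⟨e * c', ?_⟩
  rw [← he, ← hc', pow_two]; group

theorem ta_xab (hyp : SL3Hyp ζ xa xb ta ha tb hb Ka Kb) (c : F) :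
    ∃ c', ta * xab xa tb c * ta⁻¹ = xb c' := by
  obtain ⟨e, he0, he⟩ := ta_xb hyp
  obtain ⟨c', hc'⟩ := rt_ta_sq_xb hyp (e⁻¹ * c)
  refine ⟨c', ?_⟩
  have e1 : xab xa tb c = ta * xb (e⁻¹ * c) * ta⁻¹ := by
    rw [he, ← mul_assoc, mul_inv_cancel₀ he0, one_mul]
  rw [e1, ← hc', pow_two]; group

theorem ta_inv_xab (hyp : SL3Hyp ζ xa xb ta ha tb hb Ka Kb) (c : F) :
    ∃ c', ta⁻¹ * xab xa tb c * ta = xb c' := by
  obtain ⟨e, he0, he⟩ := ta_xb hyp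
  refine ⟨e⁻¹ * c, ?_⟩
  have e1 : xab xa tb c = ta * xb (e⁻¹ * c) * ta⁻¹ := by
    rw [he, ← mul_assoc, mul_inv_cancel₀ he0, one_mul]
  rw [e1]; group

theorem tb_xab (hyp : SL3Hyp ζ xa xb ta ha tb hb Ka Kb) (c : F) :
    ∃ c', tb * xab xa tb c * tb⁻¹ = xa c' := by
  obtain ⟨k, hk⟩ := hyp.tb_sq
  have h := torus_conj_xa hyp 0 (k : ℤ) c
  rw [zpow_zero, one_mul, zpow_natCast, ← hk] at h
  have e : tb * xab xa tb c * tb⁻¹ = tb ^ 2 * xa c * (tb ^ 2)⁻¹ := by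
    unfold xab; rw [pow_two]; group
  rw [e, h]
  exact ⟨_, rfl⟩

theorem tb_inv_xa (hyp : SL3Hyp ζ xa xb ta ha tb hb Ka Kb) (c : F) :
    ∃ c', tb⁻¹ * xa c * tb = xab xa tb c' := by
  obtain ⟨k, hk⟩ := hyp.tb_sq
  have h := torus_conj_xa hyp 0 (-(k : ℤ)) c
  rw [zpow_zero, one_mul, zpow_neg, zpow_natCast, ← hk] at h
  refine ⟨((ζ ^ (2 * 0 - -(k : ℤ)) : Fˣ) : F) * c, ?_⟩
  unfold xab
  rw [← h, pow_two]; group

end abstract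

end Cfsg.Agent.SL3Pres
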