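import Cfsg.Agent.SL3Pres.Roots
import Cfsg.Agent.SL3Pres.H4_A2Four
import Cfsg.Agent.SL3Pres.H4_A2Unip

/-!
# Presentation of `SL₃(F)`: the Chevalley commutator relations (piece Spread, helper4)

The abstract `A₂` spreading theorems (`a2_spread`, `a2_spread_four`) instantiated with
`x = xa`, `y = xb`, `z = xab xa tb`, `h1 = ha`, `h2 = hb`.
-/

set_option autoImplicit false

namespace Cfsg.Agent.SL3Pres

open Cfsg.Agent.SL2Pres

section abstract

variable {G : Type*} [Group G] {F : Type*} [Field F] [Fintype F]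
  {ζ : Fˣ} {xa xb : F → G} {ta ha tb hb : G} {Ka Kb : ℕ}

/-- the `A₂` torus data of the abstract group -/
theorem a2data_of_hyp (hyp : SL3Hyp ζ xa xb ta ha tb hb Ka Kb) :
    A2Data ζ xa xb (xab xa tb) ha hb where
  addx := hyp.adda
  addy := hyp.addb
  addz := xab_add hyp
  tx := torus_conj_xa hyp
  ty := torus_conj_xb hyp
  tz := torus_conj_xab hyp

/-- all Chevalley relations of the positive root groups, with the structure constant -/
theorem spr_main (hyp : SL3Hyp ζ xa xb ta ha tb hb Ka Kb) :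
    ∃ e : F, e ≠ 0 ∧ (∀ a d, Commute (xa a) (xab xa tb d)) ∧
      (∀ b d, Commute (xb b) (xab xa tb d)) ∧
      ∀ a b, xa a * xb b * (xa a)⁻¹ * (xb b)⁻¹ = xab xa tb (e * (a * b)) := by
  obtain ⟨e, he, hB, hB'⟩ := hyp.cB
  refine ⟨e, he, ?_⟩
  by_cases hq : Fintype.card F = 4
  · exact a2_spread_four (a2data_of_hyp hyp) hyp.hζ hq e he hB (hB' hq)
  · exact a2_spread (a2data_of_hyp hyp) hyp.hζ hq e he hB

theorem comm_xa_xab (hyp : SL3Hyp ζ xa xb ta ha tb hb Ka Kb) (a d : F) :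
    Commute (xa a) (xab xa tb d) := by
  obtain ⟨e, -, h1, -, -⟩ := spr_main hyp
  exact h1 a d

theorem comm_xb_xab (hyp : SL3Hyp ζ xa xb ta ha tb hb Ka Kb) (b d : F) :
    Commute (xb b) (xab xa tb d) := by
  obtain ⟨e, -, -, h2, -⟩ := spr_main hyp
  exact h2 b d

/-- the Chevalley commutator formula, with its structure constant -/
theorem comm4 (hyp : SL3Hyp ζ xa xb ta ha tb hb Ka Kb) :
    ∃ e : F, e ≠ 0 ∧ ∀ a b : F,
      xa a * xb b * (xa a)⁻¹ * (xb b)⁻¹ = xab xa tb (e * (a * b)) := by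
  obtain ⟨e, he, -, -, h3⟩ := spr_main hyp
  exact ⟨e, he, h3⟩

/-- the positive root groups satisfy the abstract `A₂` relations `A2Rel` (input of the `a2_*`
API of `H4_A2Unip`: subgroups `a2_V1`, `a2_V2`, `a2_U`, …) -/
theorem a2rel_of_hyp (hyp : SL3Hyp ζ xa xb ta ha tb hb Ka Kb) :
    ∃ e : F, e ≠ 0 ∧ A2Rel xa xb (xab xa tb) e := by
  obtain ⟨e, he, h1, h2, h3⟩ := spr_main hyp
  exact ⟨e, he, ⟨hyp.adda, hyp.addb, xab_add hyp, h1, h2, h3⟩⟩

end abstract

end Cfsg.Agent.SL3Pres
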