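import Cfsg.Agent.SL3Pres.Words
import Cfsg.Agent.SL3Pres.H5_Mat3b

/-!
# Presentation of `SL₃(F)`: the matrix side (piece TSide, S2287)
-/

set_option autoImplicit false

namespace Cfsg.Agent.SL3Pres

open Cfsg.Agent.SL2Pres Cfsg.Agent.Sp4Pres Polynomial Matrix

section tside

variable {F : Type*} [Field F]

/-- the images of the four generators -/
def gens4 (ζ : Fˣ) : Fin 4 → SpecialLinearGroup (Fin 3) F :=
  ![m3_iota (xM 1), m3_iota tM, m3_iota (hM ζ), m3_c]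

/-- the homomorphism from the free group -/
def lift4 (ζ : Fˣ) : FreeGroup (Fin 4) →* SpecialLinearGroup (Fin 3) F := FreeGroup.lift (gens4 ζ)

theorem lift4_U (ζ : Fˣ) : lift4 ζ gU = m3_iota (xM (1 : F)) := by simp [lift4, gU, gens4]
theorem lift4_T (ζ : Fˣ) : lift4 ζ gT = (m3_iota tM : SpecialLinearGroup (Fin 3) F) := by
  simp [lift4, gT, gens4]
theorem lift4_H (ζ : Fˣ) : lift4 ζ gH = m3_iota (hM ζ) := by simp [lift4, gH, gens4]
theorem lift4_C (ζ : Fˣ) : lift4 ζ gC = (m3_c : SpecialLinearGroup (Fin 3) F) := by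
  simp [lift4, gC, gens4]

theorem lift4_map3 (ζ : Fˣ) : (lift4 (F := F) ζ).comp map3 = m3_iota.comp (liftM ζ) := by
  apply FreeGroup.ext_hom
  intro a
  fin_cases a
  · show lift4 ζ (map3 wU) = m3_iota (liftM ζ wU)
    rw [map3_U, lift4_U, liftM_U]
  · show lift4 ζ (map3 wT) = m3_iota (liftM ζ wT)
    rw [map3_T, lift4_T, liftM_T]
  · show lift4 ζ (map3 wH) = m3_iota (liftM ζ wH)
    rw [map3_H, lift4_H, liftM_H]

theorem lift4_map3_apply (ζ : Fˣ) (w : FreeGroup (Fin 3)) :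
    lift4 (F := F) ζ (map3 w) = m3_iota (liftM ζ w) :=
  DFunLike.congr_fun (lift4_map3 ζ) w

/-- (B) in the `t₂`-form: `[x₁₂(a), x₂₃(b)] = t₂ x₁₂(-ab) t₂⁻¹` -/
theorem ts_rel_B2 (a b : F) :
    (m3_iota (xM a) * (m3_c * m3_iota (xM b) * m3_c⁻¹) * (m3_iota (xM a))⁻¹ *
      (m3_c * m3_iota (xM b) * m3_c⁻¹)⁻¹ : SpecialLinearGroup (Fin 3) F) =
      (m3_c * m3_iota tM * m3_c⁻¹) * m3_iota (xM (-(a * b))) * (m3_c * m3_iota tM * m3_c⁻¹)⁻¹ := by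
  have e2 := m3_x23_coe b
  have e3 := m3_t2_coe (F := F)
  generalize (m3_c : SpecialLinearGroup (Fin 3) F) * m3_iota (xM b) * m3_c⁻¹ = X at e2 ⊢
  generalize (m3_c : SpecialLinearGroup (Fin 3) F) * m3_iota tM * m3_c⁻¹ = Y at e3 ⊢
  have e4 : ((Y⁻¹ : SpecialLinearGroup (Fin 3) F) : Matrix (Fin 3) (Fin 3) F) =
      !![1, 0, 0; 0, 0, -1; 0, 1, 0] := by
    rw [Matrix.SpecialLinearGroup.coe_inv, e3, Matrix.adjugate_fin_three]
    ext i j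
    fin_cases i <;> fin_cases j <;> simp
  rw [mul_inv_eq_iff_eq_mul, mul_inv_eq_iff_eq_mul]
  apply Subtype.ext
  simp only [Matrix.SpecialLinearGroup.coe_mul, e2, e3, e4, m3_x_coe]
  ext i j
  fin_cases i <;> fin_cases j <;>
    simp [Matrix.mul_apply, Fin.sum_univ_three]

/-! ### the cross relators hold in `SL₃(F)` -/

theorem lift4_y1 (ζ : Fˣ) (M : ℕ) (hη : ζ ^ M = -1) : lift4 (F := F) ζ (y1 M) = 1 := by
  rw [y1_iff, lift4_T, lift4_C, lift4_H, ← map_pow, ← hM_pow, hη]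
  exact m3_rel_W

theorem lift4_y2 (ζ : Fˣ) : lift4 (F := F) ζ y2 = 1 := by
  rw [y2_iff, lift4_H, lift4_C]; exact m3_rel_hh ζ ζ

theorem lift4_y3 (ζ : Fˣ) : lift4 (F := F) ζ y3 = 1 := by
  rw [y3_iff, lift4_H, lift4_C]; exact m3_rel_tor ζ

theorem lift4_y4 {p : ℕ} [Fact p.Prime] [Algebra (ZMod p) F] (ζ : Fˣ) (Pinv : (ZMod p)[X])
    (hPinv : aeval ((ζ : F) ^ 2) Pinv = (ζ : F)⁻¹) : lift4 (F := F) ζ (y4 Pinv) = 1 := by
  rw [y4_iff, lift4_H, lift4_C, lift4_U, m3_rel_act, ← map_polyProd, polyProdM, hPinv, mul_one]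

theorem lift4_y5 (ζ : Fˣ) : lift4 (F := F) ζ y5 = 1 := by
  rw [y5_iff, lift4_T, lift4_C, lift4_U, ts_rel_B2, mul_one, b_xM_neg, map_inv]

theorem lift4_y6 {p : ℕ} [Fact p.Prime] [Algebra (ZMod p) F] (ζ : Fˣ) (Pζ : (ZMod p)[X])
    (hPζ : aeval ((ζ : F) ^ 2) Pζ = (ζ : F)) : lift4 (F := F) ζ (y6 Pζ) = 1 := by
  rw [y6_iff, lift4_T, lift4_C, lift4_U, lift4_H, ← map_polyProd, polyProdM, hPζ, ts_rel_B2,
    mul_one, b_xM_neg, map_inv]

theorem lift4_crossRels5 {p : ℕ} [Fact p.Prime] [Algebra (ZMod p) F] (ζ : Fˣ) (M : ℕ)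
    (hη : ζ ^ M = -1) (Pinv : (ZMod p)[X])
    (hPinv : aeval ((ζ : F) ^ 2) Pinv = (ζ : F)⁻¹) :
    ∀ r ∈ crossRels5 M Pinv, lift4 (F := F) ζ r = 1 := by
  intro r hr
  simp only [crossRels5, List.mem_cons, List.not_mem_nil, or_false] at hr
  rcases hr with rfl | rfl | rfl | rfl | rfl
  · exact lift4_y1 ζ M hη
  · exact lift4_y2 ζ
  · exact lift4_y3 ζ
  · exact lift4_y4 ζ Pinv hPinv
  · exact lift4_y5 ζ

/-- the four matrices generate `SL₃(F)` -/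
theorem lift4_surjective [Fintype F] {p : ℕ} [Fact p.Prime] [Algebra (ZMod p) F] (ζ : Fˣ)
    (hζ : ∀ a : Fˣ, a ∈ Subgroup.zpowers ζ) : Function.Surjective (lift4 (F := F) ζ) := by
  rw [← MonoidHom.range_eq_top]
  apply m3_gen'
  · intro a
    obtain ⟨w, hw⟩ := liftM_surjective (p := p) ζ hζ (xM a)
    exact ⟨map3 w, by rw [lift4_map3_apply, hw]⟩
  · exact ⟨gT, lift4_T ζ⟩
  · exact ⟨gC, lift4_C ζ⟩

end tside

end Cfsg.Agent.SL3Pres
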