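import Cfsg.Agent.Sp4Pres.Words

/-!
# Presentation of `SL₃(F)`: the relator words in `FreeGroup (Fin 4)` (piece Words, S2287)

Generators `0 : U`, `1 : T`, `2 : H` (the `SL₂`-triple of the root `α`), `3 : C` (the 3-cycle).
-/

set_option autoImplicit false

namespace Cfsg.Agent.SL3Pres

open Cfsg.Agent.SL2Pres Cfsg.Agent.Sp4Pres Polynomial

/-- the embedding of the `SL₂`-generators -/
def inc3 : Fin 3 → Fin 4 := fun i => ⟨i.1, by omega⟩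

/-- the words of the `SL₂`-triple -/
def map3 : FreeGroup (Fin 3) →* FreeGroup (Fin 4) := FreeGroup.map inc3

def gU : FreeGroup (Fin 4) := FreeGroup.of 0
def gT : FreeGroup (Fin 4) := FreeGroup.of 1
def gH : FreeGroup (Fin 4) := FreeGroup.of 2
def gC : FreeGroup (Fin 4) := FreeGroup.of 3
def gUB : FreeGroup (Fin 4) := gC * gU * gC⁻¹
def gTB : FreeGroup (Fin 4) := gC * gT * gC⁻¹
def gHB : FreeGroup (Fin 4) := gC * gH * gC⁻¹

theorem map3_U : map3 wU = gU := by simp [map3, wU, gU, inc3]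
theorem map3_T : map3 wT = gT := by simp [map3, wT, gT, inc3]
theorem map3_H : map3 wH = gH := by simp [map3, wH, gH, inc3]

/-! ### the cross relators -/

/-- (W) `t · t^c · h^M = c` -/
def y1 (M : ℕ) : FreeGroup (Fin 4) := gT * gTB * gH ^ M * gC⁻¹
/-- (hh) `[h, h^c] = 1` -/
def y2 : FreeGroup (Fin 4) := gH * gHB * (gHB * gH)⁻¹
/-- (tor) `h · h^c · h^{c⁻¹} = 1` -/
def y3 : FreeGroup (Fin 4) := gH * gHB * (gC⁻¹ * gH * gC)
/-- (act) `h^c u h^{-c} = x(ζ⁻¹)` -/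
noncomputable def y4 {p : ℕ} (Pinv : (ZMod p)[X]) : FreeGroup (Fin 4) :=
  gHB * gU * gHB⁻¹ * (polyProd gH gU Pinv)⁻¹
/-- (B) `[u, u^c] = t^c u⁻¹ t^{-c}` -/
def y5 : FreeGroup (Fin 4) := gU * gUB * gU⁻¹ * gUB⁻¹ * (gTB * gU⁻¹ * gTB⁻¹)⁻¹
/-- (B') `[x(ζ), u^c] = t^c x(ζ)⁻¹ t^{-c}`, only for `|F| = 4` -/
noncomputable def y6 {p : ℕ} (Pζ : (ZMod p)[X]) : FreeGroup (Fin 4) :=
  polyProd gH gU Pζ * gUB * (polyProd gH gU Pζ)⁻¹ * gUB⁻¹ *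
    (gTB * (polyProd gH gU Pζ)⁻¹ * gTB⁻¹)⁻¹

/-- the list of the five cross relators -/
noncomputable def crossRels5 {p : ℕ} (M : ℕ) (Pinv : (ZMod p)[X]) : List (FreeGroup (Fin 4)) :=
  [y1 M, y2, y3, y4 Pinv, y5]

section maps

variable {G : Type*} [Group G] (ψ : FreeGroup (Fin 4) →* G)

theorem psi_gUB : ψ gUB = ψ gC * ψ gU * (ψ gC)⁻¹ := by simp [gUB]
theorem psi_gTB : ψ gTB = ψ gC * ψ gT * (ψ gC)⁻¹ := by simp [gTB]
theorem psi_gHB : ψ gHB = ψ gC * ψ gH * (ψ gC)⁻¹ := by simp [gHB]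

theorem y1_iff (M : ℕ) : ψ (y1 M) = 1 ↔
    ψ gT * (ψ gC * ψ gT * (ψ gC)⁻¹) * ψ gH ^ M = ψ gC := by
  rw [y1, map_mul, map_inv, mul_inv_eq_one]
  simp only [map_mul, map_pow, psi_gTB]

theorem y2_iff : ψ y2 = 1 ↔
    ψ gH * (ψ gC * ψ gH * (ψ gC)⁻¹) = (ψ gC * ψ gH * (ψ gC)⁻¹) * ψ gH := by
  rw [y2, map_mul, map_inv, mul_inv_eq_one]
  simp only [map_mul, psi_gHB]

theorem y3_iff : ψ y3 = 1 ↔
    ψ gH * (ψ gC * ψ gH * (ψ gC)⁻¹) * ((ψ gC)⁻¹ * ψ gH * ψ gC) = 1 := by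
  rw [y3]
  simp only [map_mul, map_inv, psi_gHB]

theorem y4_iff {p : ℕ} (Pinv : (ZMod p)[X]) : ψ (y4 Pinv) = 1 ↔
    (ψ gC * ψ gH * (ψ gC)⁻¹) * ψ gU * (ψ gC * ψ gH * (ψ gC)⁻¹)⁻¹ =
      polyProd (ψ gH) (ψ gU) Pinv := by
  rw [y4, map_mul, map_inv, mul_inv_eq_one]
  simp only [map_mul, map_inv, map_polyProd, psi_gHB]

theorem y5_iff : ψ y5 = 1 ↔
    ψ gU * (ψ gC * ψ gU * (ψ gC)⁻¹) * (ψ gU)⁻¹ * (ψ gC * ψ gU * (ψ gC)⁻¹)⁻¹ =
      (ψ gC * ψ gT * (ψ gC)⁻¹) * (ψ gU)⁻¹ * (ψ gC * ψ gT * (ψ gC)⁻¹)⁻¹ := by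
  rw [y5, map_mul, map_inv, mul_inv_eq_one]
  simp only [map_mul, map_inv, psi_gUB, psi_gTB]

theorem y6_iff {p : ℕ} (Pζ : (ZMod p)[X]) : ψ (y6 Pζ) = 1 ↔
    polyProd (ψ gH) (ψ gU) Pζ * (ψ gC * ψ gU * (ψ gC)⁻¹) * (polyProd (ψ gH) (ψ gU) Pζ)⁻¹ *
        (ψ gC * ψ gU * (ψ gC)⁻¹)⁻¹ =
      (ψ gC * ψ gT * (ψ gC)⁻¹) * (polyProd (ψ gH) (ψ gU) Pζ)⁻¹ *
        (ψ gC * ψ gT * (ψ gC)⁻¹)⁻¹ := by
  rw [y6, map_mul, map_inv, mul_inv_eq_one]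
  simp only [map_mul, map_inv, map_polyProd, psi_gUB, psi_gTB]

end maps

/-- generation of a presented group on four generators -/
theorem closure_gens4 (rels : Set (FreeGroup (Fin 4))) :
    Subgroup.closure {PresentedGroup.mk rels gU, PresentedGroup.mk rels gT,
      PresentedGroup.mk rels gH, PresentedGroup.mk rels gC} = ⊤ := by
  have h := PresentedGroup.closure_range_of rels
  have e : Set.range (PresentedGroup.of (rels := rels)) =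
      {PresentedGroup.mk rels gU, PresentedGroup.mk rels gT,
      PresentedGroup.mk rels gH, PresentedGroup.mk rels gC} := by
    ext g
    constructor
    · rintro ⟨i, rfl⟩
      fin_cases i
      · left; rfl
      · right; left; rfl
      · right; right; left; rfl
      · right; right; right; rfl
    · rintro (rfl | rfl | rfl | rfl)
      · exact ⟨0, rfl⟩
      · exact ⟨1, rfl⟩
      · exact ⟨2, rfl⟩
      · exact ⟨3, rfl⟩
  rw [← e]; exact h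

end Cfsg.Agent.SL3Pres
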